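import Cfsg.Agent.Characters.Core

/-!
# KZ, `G₂(q)` and `³D₄(q)`: integer vectors (helper50)

`mu φ χ` is the multiplicity of `χ` in the generalized character `φ`; `supp_le`, `exists_three`, `three_dvd_sum` are the
counting arguments.
-/

set_option autoImplicit false
set_option linter.unusedSectionVars false

namespace Cfsg.Agent.KZ.G2

open Cfsg Cfsg.Agent.Characters.Core Finset

section Vec

variable {ι : Type} [Fintype ι] [DecidableEq ι]

theorem sum_le_univ (g : ι → ℤ) (S : Finset ι) : ∑ i ∈ S, g i ^ 2 ≤ ∑ i, g i ^ 2 :=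
  sum_le_sum_of_subset_of_nonneg (subset_univ S) fun _ _ _ => sq_nonneg _

theorem one_le_sq {a : ℤ} (h : ¬ 2 ∣ a) : 1 ≤ a ^ 2 := by
  have : a ≠ 0 := fun e => h (e ▸ dvd_zero 2)
  have := sq_pos_of_ne_zero this
  omega

theorem four_le_sq {a : ℤ} (h : 2 ∣ a) (h0 : a ≠ 0) : 4 ≤ a ^ 2 := by
  obtain ⟨c, rfl⟩ := h
  have : c ≠ 0 := fun e => h0 (by rw [e, mul_zero])
  have := sq_pos_of_ne_zero this
  nlinarith

omit [DecidableEq ι] in
/-- the support of `a` -/
theorem supp_le {a b : ι → ℤ} (h : ∀ i, 2 ∣ a i + b i) :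
    4 * ((univ.filter fun i => a i ≠ 0).card : ℤ) ≤ ∑ i, a i ^ 2 + 3 * ∑ i, b i ^ 2 := by
  rw [card_filter, Nat.cast_sum, mul_sum, mul_sum, ← sum_add_distrib]
  refine sum_le_sum fun i _ => ?_
  have h1 := sq_nonneg (a i)
  have h2 := sq_nonneg (b i)
  split_ifs with h0
  · by_cases h3 : 2 ∣ a i
    · have := four_le_sq h3 h0
      push_cast
      omega
    · have h4 : ¬ 2 ∣ b i := fun h5 => h3 (by have := h i; omega)
      have := one_le_sq h3
      have := one_le_sq h4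
      push_cast
      omega
  · push_cast
    omega

omit [DecidableEq ι] in
theorem card_supp {b : ι → ℤ} {n : ℕ} (h : ∑ i, b i ^ 2 = n) (hn : n ≤ 3) :
    (∀ i, b i ≠ 0 → b i ^ 2 = 1) ∧ (univ.filter fun i => b i ≠ 0).card = n := by
  classical
  have h1 : ∀ i, b i ≠ 0 → b i ^ 2 = 1 := fun i hi => by
    have h2 := sum_le_univ b {i}
    rw [sum_singleton, h] at h2
    have h3 : b i ≤ 1 := by nlinarith
    have h4 : -1 ≤ b i := by nlinarith
    have : b i = 1 ∨ b i = -1 := by omega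
    rcases this with e | e <;> rw [e] <;> rfl
  refine ⟨h1, ?_⟩
  have h2 : ((univ.filter fun i => b i ≠ 0).card : ℤ) = n := by
    rw [← h, card_filter, Nat.cast_sum]
    refine sum_congr rfl fun i _ => ?_
    split_ifs with h0
    · rw [h1 i h0]; rfl
    · rw [not_not.1 h0]; rfl
  exact_mod_cast h2

theorem sum_three {g : ι → ℤ} {x y z : ι} (hxy : x ≠ y) (hxz : x ≠ z) (hyz : y ≠ z)
    (h : ∀ i, i ≠ x → i ≠ y → i ≠ z → g i = 0) : ∑ i, g i = g x + g y + g z := by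
  rw [← sum_subset (subset_univ {x, y, z}) fun i _ hi => by
    simp only [mem_insert, mem_singleton, not_or] at hi
    exact h i hi.1 hi.2.1 hi.2.2]
  rw [sum_insert (by simp [hxy, hxz]), sum_pair hyz, add_assoc]

theorem sq_one_of {a b : ℤ} (ha : ¬ 2 ∣ a) (hb : ¬ 2 ∣ b) (h : a ^ 2 + b ^ 2 ≤ 6) : a ^ 2 = 1 := by
  have h1 := one_le_sq hb
  have h3 : a ≤ 2 := by nlinarith
  have h4 : -2 ≤ a := by nlinarith
  have : a = 1 ∨ a = -1 := by omega
  rcases this with e | e <;> rw [e] <;> rfl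

/-- vectors of norm `6` and `2` -/
theorem shape {a b : ι → ℤ} (h : ∀ i, 2 ∣ a i + b i) (ha : ∑ i, a i ^ 2 = 6) (hb : ∑ i, b i ^ 2 = 2)
    (hab : ∑ i, a i * b i = 0) : ∃ x y z : ι, x ≠ y ∧ x ≠ z ∧ y ≠ z ∧ a x ^ 2 = 1 ∧ b x = a x ∧ a y ^ 2 = 4 ∧ b y = 0 ∧
      a z ^ 2 = 1 ∧ b z = -a z ∧ ∀ i, i ≠ x → i ≠ y → i ≠ z → a i = 0 ∧ b i = 0 := by
  obtain ⟨h1, h2⟩ := card_supp (n := 2) hb (by norm_num)
  obtain ⟨x, z, hxz, h3⟩ := card_eq_two.1 h2
  have h4 : ∀ i, b i ≠ 0 ↔ i = x ∨ i = z := fun i => by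
    have := congrArg (i ∈ ·) h3
    simpa using this
  have odd : ∀ i, b i ≠ 0 → ¬ 2 ∣ a i := fun i hi h5 => by
    have h6 : 2 ∣ b i := by have := h i; omega
    have := four_le_sq h6 hi
    rw [h1 i hi] at this
    omega
  have hx := (h4 x).2 (.inl rfl)
  have hz := (h4 z).2 (.inr rfl)
  have h5 := sum_le_univ a {x, z}
  rw [sum_pair hxz, ha] at h5
  have ax := sq_one_of (odd x hx) (odd z hz) h5
  have az := sq_one_of (odd z hz) (odd x hx) (by omega)
  have b0 : ∀ i, i ≠ x → i ≠ z → b i = 0 := fun i h6 h7 => by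
    by_contra h8
    exact ((h4 i).1 h8).elim h6 h7
  obtain ⟨c, hc⟩ : ∃ c : ι → ℤ, ∀ i, c i = if i = x ∨ i = z then 0 else a i / 2 := ⟨_, fun _ => rfl⟩
  have h6 : ∀ i, i ≠ x → i ≠ z → a i = 2 * c i := fun i h6 h7 => by
    have := h i
    rw [b0 i h6 h7] at this
    rw [hc, if_neg (by tauto)]
    omega
  have h7 : ∑ i, c i ^ 2 = (1 : ℕ) := by
    have h8 : ∑ i, a i ^ 2 = ∑ i, (4 * c i ^ 2 + ((if i = x then 1 else 0) + if i = z then 1 else 0)) := by
      refine sum_congr rfl fun i _ => ?_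
      by_cases e : i = x
      · rw [e, hc, if_pos (.inl rfl), if_pos rfl, if_neg hxz, ax]; rfl
      by_cases e' : i = z
      · rw [e', hc, if_pos (.inr rfl), if_pos rfl, if_neg hxz.symm, az]; rfl
      rw [if_neg e, if_neg e', h6 i e e']; ring
    rw [ha, sum_add_distrib, sum_add_distrib, ← mul_sum] at h8
    simp only [sum_ite_eq', mem_univ, if_true] at h8
    push_cast
    omega
  obtain ⟨h8, h9⟩ := card_supp h7 (by norm_num)
  obtain ⟨y, h10⟩ := card_eq_one.1 h9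
  have h11 : ∀ i, c i ≠ 0 ↔ i = y := fun i => by
    have := congrArg (i ∈ ·) h10
    simpa using this
  have hy := (h11 y).2 rfl
  have hxy : x ≠ y := fun e => hy (by rw [hc, if_pos (.inl e.symm)])
  have hzy : z ≠ y := fun e => hy (by rw [hc, if_pos (.inr e.symm)])
  have ay : a y ^ 2 = 4 := by rw [h6 y hxy.symm hzy.symm, mul_pow, h8 y hy]; rfl
  have by0 := b0 y hxy.symm hzy.symm
  have r0 : ∀ i, i ≠ x → i ≠ y → i ≠ z → a i = 0 ∧ b i = 0 := fun i e1 e2 e3 =>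
    ⟨by rw [h6 i e1 e3, not_not.1 (mt (h11 i).1 e2), mul_zero], b0 i e1 e3⟩
  rw [sum_three hxy hxz hzy.symm fun i e1 e2 e3 => by rw [(r0 i e1 e2 e3).1, zero_mul], by0] at hab
  have bx := h1 x hx
  have bz := h1 z hz
  have key : (b x = a x ∧ b z = -a z) ∨ (b z = a z ∧ b x = -a x) := by
    rcases sq_eq_one_iff.1 ax with e1 | e1 <;> rcases sq_eq_one_iff.1 az with e2 | e2 <;>
      rw [e1, e2] at hab ⊢ <;> rcases sq_eq_one_iff.1 bx with e3 | e3 <;> omega
  rcases key with ⟨e1, e2⟩ | ⟨e1, e2⟩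
  · exact ⟨x, y, z, hxy, hxz, hzy.symm, ax, e1, ay, by0, az, e2, r0⟩
  · exact ⟨z, y, x, hzy, hxz.symm, hxy.symm, az, e1, ay, by0, ax, e2, fun i e1 e2 e3 => r0 i e3 e2 e1⟩

/-- the three constituents of `a`: they do not occur in `a₁`, and they are determined by their multiplicities -/
theorem exists_three {a b a₁ b₁ : ι → ℤ} (h : ∀ i, 2 ∣ a i + b i) (ha : ∑ i, a i ^ 2 = 6) (hb : ∑ i, b i ^ 2 = 2)
    (hab : ∑ i, a i * b i = 0) (h₁ : ∀ i, 2 ∣ a₁ i + b₁ i) (ha₁ : ∑ i, a₁ i ^ 2 = 12) (hb₁ : ∑ i, b₁ i ^ 2 = 4)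
    (h1 : ∑ i, a₁ i * a i = 0) (h2 : ∑ i, a₁ i * b i = 0) {u v : ι} (huv : u ≠ v) (hu : a u = 0) (hv : a v = 0)
    (hu₁ : ¬ 2 ∣ a₁ u) (hv₁ : ¬ 2 ∣ a₁ v) : ∃ e : Fin 3 → ι, Function.Injective e ∧
      ∀ i, a₁ (e i) = 0 ∧ ¬ 3 ∣ a (e i) ∧ ∀ j, a j = a (e i) → b j = b (e i) → j = e i := by
  obtain ⟨x, y, z, hxy, hxz, hyz, ax, bx, ay, by0, az, bz, r0⟩ := shape h ha hb hab
  rw [sum_three hxy hxz hyz fun i e1 e2 e3 => by rw [(r0 i e1 e2 e3).1, mul_zero]] at h1
  rw [sum_three hxy hxz hyz fun i e1 e2 e3 => by rw [(r0 i e1 e2 e3).2, mul_zero], bx, by0, bz] at h2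
  have ax' := sq_eq_one_iff.1 ax
  have az' := sq_eq_one_iff.1 az
  have ay' : a y = 2 ∨ a y = -2 := sq_eq_sq_iff_eq_or_eq_neg.1 (by rw [ay]; rfl)
  have ne : ∀ {i j}, a i = 0 → a j ≠ 0 → j ≠ i := fun e1 e2 e => e2 (e ▸ e1)
  have nx : a x ≠ 0 := by omega
  have ny : a y ≠ 0 := by omega
  have nz : a z ≠ 0 := by omega
  have five : ∀ g : ι → ℤ, g x ^ 2 + (g y ^ 2 + (g z ^ 2 + (g u ^ 2 + g v ^ 2))) ≤ ∑ i, g i ^ 2 := fun g => by
    have h3 := sum_le_univ g {x, y, z, u, v}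
    rwa [sum_insert (by simp [hxy, hxz, ne hu nx, ne hv nx]), sum_insert (by simp [hyz, ne hu ny, ne hv ny]),
      sum_insert (by simp [ne hu nz, ne hv nz]), sum_pair huv] at h3
  have h3 : (a₁ y = a₁ x ∨ a₁ y = -a₁ x) ∧ (a₁ z = a₁ x ∨ a₁ z = -a₁ x) := by
    rcases ax' with e1 | e1 <;> rcases ay' with e2 | e2 <;> rcases az' with e3 | e3 <;> rw [e1, e2, e3] at h1 <;>
      rw [e1, e3] at h2 <;> omega
  have h4 : a₁ x = 0 := by
    by_contra h4
    have odd : ∀ i, ¬ 2 ∣ a₁ i → 1 ≤ b₁ i ^ 2 := fun i hi => one_le_sq fun h5 => hi (by have := h₁ i; omega)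
    by_cases h5 : 2 ∣ a₁ x
    · have h6 := five a₁
      have := four_le_sq h5 h4
      have := four_le_sq (a := a₁ y) (by omega) (by omega)
      have := four_le_sq (a := a₁ z) (by omega) (by omega)
      have := one_le_sq hu₁
      have := one_le_sq hv₁
      omega
    · have h6 := five b₁
      have := odd x h5
      have := odd y (by omega)
      have := odd z (by omega)
      have := odd u hu₁
      have := odd v hv₁
      omega
  have cs : ∀ j, a j ≠ 0 → j = x ∨ j = y ∨ j = z := fun j hj => by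
    by_contra h5
    simp only [not_or] at h5
    exact hj (r0 j h5.1 h5.2.1 h5.2.2).1
  refine ⟨![x, y, z], ?_, fun i => ?_⟩
  · intro i j e
    fin_cases i <;> fin_cases j <;> simp_all
  · fin_cases i
    · refine ⟨h4, show ¬ 3 ∣ a x by omega, fun j (e1 : a j = a x) (e2 : b j = b x) => ?_⟩
      rcases cs j (by omega) with rfl | rfl | rfl
      · rfl
      · omega
      · omega
    · refine ⟨show a₁ y = 0 by omega, show ¬ 3 ∣ a y by omega, fun j (e1 : a j = a y) (e2 : b j = b y) => ?_⟩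
      rcases cs j (by omega) with rfl | rfl | rfl
      · omega
      · rfl
      · omega
    · refine ⟨show a₁ z = 0 by omega, show ¬ 3 ∣ a z by omega, fun j (e1 : a j = a z) (e2 : b j = b z) => ?_⟩
      rcases cs j (by omega) with rfl | rfl | rfl
      · omega
      · omega
      · rfl

omit [Fintype ι] in
/-- orbits of length `3` -/
theorem three_dvd_sum (τ : ι → ι) (g : ι → ℤ) (S : Finset ι) (h3 : ∀ x ∈ S, τ (τ (τ x)) = x) (hS : ∀ x ∈ S, τ x ∈ S)
    (hg : ∀ x ∈ S, g (τ x) = g x) (hf : ∀ x ∈ S, τ x ≠ x) : 3 ∣ ∑ x ∈ S, g x := by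
  induction S using Finset.strongInduction with
  | H S ih =>
    rcases S.eq_empty_or_nonempty with rfl | ⟨x, hx⟩
    · simp
    have h1 := hS x hx
    have h2 := hS _ h1
    have hO : ({x, τ x, τ (τ x)} : Finset ι) ⊆ S := by
      intro y hy
      simp only [mem_insert, mem_singleton] at hy
      rcases hy with rfl | rfl | rfl <;> assumption
    have n1 : x ≠ τ (τ x) := fun e => hf x hx ((congrArg τ e).trans (h3 x hx))
    rw [← sum_sdiff hO, sum_insert (by simp [(hf x hx).symm, n1]), sum_pair (hf _ h1).symm, hg _ h1, hg x hx]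
    refine dvd_add (ih _ (sdiff_ssubset hO ⟨x, by simp⟩) (fun y hy => h3 y (mem_sdiff.1 hy).1) (fun y hy => ?_)
      (fun y hy => hg y (mem_sdiff.1 hy).1) fun y hy => hf y (mem_sdiff.1 hy).1) ⟨g x, by ring⟩
    obtain ⟨h4, h5⟩ := mem_sdiff.1 hy
    refine mem_sdiff.2 ⟨hS y h4, fun h6 => h5 ?_⟩
    simp only [mem_insert, mem_singleton] at h6 ⊢
    rw [← h3 y h4]
    rcases h6 with e | e | e <;> rw [e]
    · exact .inr (.inr rfl)
    · exact .inl (h3 x hx)
    · exact .inr (.inl (by rw [h3 x hx]))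

end Vec

variable {G : Type} [Group G] [Fintype G]

/-- the multiplicity of `χ` in `φ` -/
noncomputable def mu (φ : G → ℂ) (χ : IrrCharacter G) : ℤ := ⌊(classInner (χ : G → ℂ) φ).re⌋

theorem mu_eq {φ : G → ℂ} {χ : IrrCharacter G} {n : ℤ} (h : classInner (χ : G → ℂ) φ = n) : mu φ χ = n := by
  rw [mu, h, Complex.intCast_re, Int.floor_intCast]

theorem mu_spec {φ : G → ℂ} (h : IsGeneralizedCharacter G φ) (χ : IrrCharacter G) :
    classInner (χ : G → ℂ) φ = mu φ χ := by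
  have := finite_irr (G := G)
  have := Fintype.ofFinite (IrrCharacter G)
  obtain ⟨m, rfl⟩ := isGeneralizedCharacter_iff.1 h
  have h1 := congrArg (starRingEnd ℂ) (classInner_sum_zsmul_irr m χ)
  rw [classInner_conj_symm, map_intCast] at h1
  rw [mu_eq h1, h1]

theorem gen_cls {φ : G → ℂ} (h : IsGeneralizedCharacter G φ) : IsClassFunction G φ := by
  obtain ⟨χ, ψ, h1, h2, rfl⟩ := h
  intro g x
  rw [Pi.sub_apply, Pi.sub_apply, isCharacter_isClassFunction h1, isCharacter_isClassFunction h2]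

theorem sum_mu [Fintype (IrrCharacter G)] {φ ψ : G → ℂ} (h : IsGeneralizedCharacter G φ)
    (h' : IsGeneralizedCharacter G ψ) {n : ℕ} (e : classInner φ ψ = n) : ∑ χ, mu φ χ * mu ψ χ = n := by
  rw [classInner_eq_sum (gen_cls h) (gen_cls h')] at e
  have h1 : ((∑ χ, mu φ χ * mu ψ χ : ℤ) : ℂ) = n := by
    rw [← e, Int.cast_sum]
    refine sum_congr rfl fun χ _ => ?_
    rw [classInner_conj_symm, mu_spec h', ← classInner_conj_symm, mu_spec h, map_intCast, Int.cast_mul]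
  exact_mod_cast h1

theorem sum_mu_sq [Fintype (IrrCharacter G)] {φ : G → ℂ} (h : IsGeneralizedCharacter G φ) {n : ℕ}
    (e : classInner φ φ = n) : ∑ χ, mu φ χ ^ 2 = n := by
  rw [← sum_mu h h e]
  exact sum_congr rfl fun χ _ => sq _

theorem two_dvd_mu {φ ψ η : G → ℂ} (h : IsGeneralizedCharacter G φ) (h' : IsGeneralizedCharacter G ψ)
    (h'' : IsGeneralizedCharacter G η) (e : φ + ψ = η + η) (χ : IrrCharacter G) : 2 ∣ mu φ χ + mu ψ χ := by
  have h1 := congrArg (classInner (χ : G → ℂ)) e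
  rw [classInner_add_right, classInner_add_right, mu_spec h, mu_spec h', mu_spec h''] at h1
  exact ⟨mu η χ, by exact_mod_cast h1.trans (two_mul _).symm⟩

theorem mu_aut {φ : G → ℂ} (α : MulAut G) (h : ∀ g, φ (α g) = φ g) {χ χ' : IrrCharacter G}
    (e : ∀ g, (χ' : G → ℂ) g = (χ : G → ℂ) (α g)) : mu φ χ' = mu φ χ := by
  unfold mu
  congr 2
  rw [classInner_def, classInner_def, ← Equiv.sum_comp α.toEquiv fun g => (χ : G → ℂ) g * starRingEnd ℂ (φ g)]
  refine congrArg _ (sum_congr rfl fun g _ => ?_)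
  rw [e, ← h g]
  rfl

end Cfsg.Agent.KZ.G2
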