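import Cfsg.Agent.KZ.G2.Vec
import Cfsg.Agent.KZ.Lie.ApiB
import Cfsg.Agent.KZ.Tool.One

/-!
# KZ, `G₂(q)` and `³D₄(q)`: the members of `G ^ F` (helper50)

`Cb D Adm w₀` is the combinatorial input; `Cb.k0_le` : at most nine members; `Cb.exists_three` : three nontrivial members
which are fixed by all admissible automorphisms.
-/

set_option autoImplicit false
set_option linter.unusedSectionVars false

namespace Cfsg.Agent.KZ.G2

open Cfsg Cfsg.Agent.DL Cfsg.Agent.DL.PP Cfsg.Agent.DL.Uni Cfsg.Agent.DL.Asm Cfsg.Agent.KZ.Lie Matrix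
  Cfsg.Agent.Characters.Core

variable {p : ℕ} [Fact p.Prime] {k : Type} [Field k] [CharP k p] {Y : Type} [Group Y] {N : Type} [Fintype N]
  [DecidableEq N] {ρ : Y →* GL N k} {F : MulAut Y} {G : Subgroup Y} [IsAlgClosed k] {D : Datum p ρ F G}

/-! ### labels -/

theorem rel_iff {u : D.W} {c c' : Lbl D} : Rel D u c c' ↔ c = mon (D.Wm u)ᵀ c' :=
  ⟨fun h => eq_of_chr D fun v => by rw [chr_tr, h], fun h v => by rw [h, chr_tr]⟩

theorem tr_iff {B : Matrix D.R D.R ℤ} {c c' : Lbl D} : Tr D B c c' ↔ c = mon Bᵀ c' :=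
  ⟨fun h => eq_of_chr D fun v => by rw [chr_tr, h], fun h v => by rw [h, chr_tr]⟩

theorem fx_one (w : D.W) : Fx D w 1 := fun v => by rw [map_one, map_one]

theorem rel_oo (u : D.W) : Rel D u 1 1 := fun v => by rw [map_one, map_one]

theorem fx_mul {w : D.W} {c c' : Lbl D} (h : Fx D w c) (h' : Fx D w c') : Fx D w (c * c') := fun v => by
  rw [map_mul, map_mul, h, h']

theorem fx_inv {w : D.W} {c : Lbl D} (h : Fx D w c) : Fx D w c⁻¹ := fun v => by rw [map_inv, map_inv, h]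

theorem fx_pow {w : D.W} {c : Lbl D} (h : Fx D w c) (n : ℕ) : Fx D w (c ^ n) := fun v => by rw [map_pow, map_pow, h]

theorem rel_inv {u : D.W} {c c' : Lbl D} (h : Rel D u c c') : Rel D u c⁻¹ c'⁻¹ := fun v => by rw [map_inv, map_inv, h]

theorem eq_one_of_rel {u : D.W} {c : Lbl D} (h : Rel D u c 1) : c = 1 := by rw [rel_iff.1 h, map_one]

theorem eq_one_of_rel' {u : D.W} {c : Lbl D} (h : Rel D u 1 c) : c = 1 := eq_one_of_rel h.symm

theorem mon_smul_one (n : ℤ) (c : Lbl D) : mon (n • (1 : Matrix D.R D.R ℤ))ᵀ c = c ^ n := by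
  rw [transpose_smul, transpose_one, DL.mon_zsmul, DL.mon_one]

theorem zpow_of_cube {c : Lbl D} (h : c ^ 3 = 1) {n : ℤ} (hn : ¬ 3 ∣ n) :
    (3 ∣ n - 1 ∧ c ^ n = c) ∨ (3 ∣ n + 1 ∧ c ^ n = c⁻¹) := by
  have h3 : ∀ m : ℤ, c ^ (3 * m) = 1 := fun m => by rw [_root_.zpow_mul, zpow_ofNat, h, _root_.one_zpow]
  rcases (by omega : 3 ∣ n - 1 ∨ 3 ∣ n + 1) with ⟨m, hm⟩ | ⟨m, hm⟩
  · exact .inl ⟨⟨m, hm⟩, by rw [show n = 3 * m + 1 by omega, _root_.zpow_add_one, h3, one_mul]⟩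
  · exact .inr ⟨⟨m, hm⟩, by rw [show n = 3 * m - 1 by omega, _root_.zpow_sub_one, h3, one_mul]⟩

theorem mx_cancel {A B : Matrix D.R D.R ℤ} (h : A * D.Mx = B * D.Mx) : A = B := by
  obtain ⟨d, e, L⟩ := exists_lvl D
  have h1 := L.pow 1
  obtain ⟨m, rfl⟩ := Nat.exists_eq_succ_of_ne_zero L.d_pos.ne'
  rw [D.Wm_one, one_mul, pow_succ'] at h1
  have h2 : A * (D.Mx * D.Mx ^ m) = B * (D.Mx * D.Mx ^ m) := by rw [← mul_assoc, h, mul_assoc]
  rw [h1, mul_smul_comm, mul_smul_comm, mul_one, mul_one] at h2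
  exact smul_right_injective _ (pow_ne_zero e (Nat.cast_ne_zero.2 (Fact.out : p.Prime).ne_zero)) h2

theorem tc_iff {v w w' : D.W} : Tc D v w w' ↔ D.Wm w' * D.Mx * D.Wm v = D.Wm v * (D.Wm w * D.Mx) := by
  rw [mul_assoc, D.Mx_Wm, ← mul_assoc, ← mul_assoc, ← D.Wm_mul, ← D.Wm_mul]
  exact ⟨fun h => by rw [show w' * D.Fw v = v * w from h], fun h => D.Wm_injective (mx_cancel h)⟩

variable (D) in
/-- The combinatorial input. -/
structure Cb (Adm : Matrix D.R D.R ℤ → Prop) (w₀ : D.W) where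
  z : D.W
  σ : D.W
  r : D.W
  s : Lbl D
  lam : D.R → ℤ
  z_eq : D.Wm z = -1
  σ_mem : σ ∈ CW D w₀
  σ_ne : σ ≠ 1
  σ_cube : σ ^ 3 = 1
  r_mem : r ∈ CW D w₀
  rσ : r * σ * r⁻¹ * σ = 1
  sg_r : sg D r = -1
  three : ∀ x ∈ CW D w₀, x * x = 1 ∨ x * x = σ ∨ x * x = σ * σ
  s_cube : s ^ 3 = 1
  s_ne : s ≠ 1
  s_σ : Rel D σ s s
  s_r : Rel D r s s
  fixed : ∀ c, Fx D w₀ c → Is3 D c → Rel D σ c c → c = 1 ∨ c = s ∨ c = s⁻¹
  faith : ∀ x ∈ CW D w₀, (∀ c, Fx D w₀ c → c ^ 3 = 1 → Rel D x c c) → x = 1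
  wl : ∀ u, u ∈ Wl D lam ↔ u = 1 ∨ u = r
  lv1 : LeviOK D lam w₀ 1
  lvs : LeviOK D lam w₀ s
  n1 : Nat.card ↥(CW D w₀) = 12
  n2 : Nat.card ↥(CW D (r * w₀)) = 4
  n3 : Nat.card {v // Tc D v w₀ w₀ ∧ Rel D v s s} = 6
  n4 : Nat.card {v // Tc D v (r * w₀) (r * w₀) ∧ Rel D v s s} = 2
  adm : ∀ A, Adm A → ∃ n : ℤ, ¬ 3 ∣ n ∧ A = n • 1
  reg : RegC D w₀
  syl : SylC D w₀

variable {f : Fr D} [Fintype ↥(GF F G)] (hA : Api f)

section Api

include hA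

theorem ip_zero {w w' : D.W} {c c' : Lbl D} (h : ∀ v, Tc D v w w' → ¬ Rel D v c c') :
    classInner (RW f w c) (RW f w' c') = (0 : ℕ) := by
  by_cases h1 : Fx D w c
  · by_cases h2 : Fx D w' c'
    · have : IsEmpty {v // Tc D v w w' ∧ Rel D v c c'} := ⟨fun v => h v.1 v.2.1 v.2.2⟩
      rw [hA.ip _ _ _ _ h1 h2, Nat.card_of_isEmpty]
    · rw [hA.zero _ _ h2, classInner_zero_right, Nat.cast_zero]
  · rw [hA.zero _ _ h1, classInner_zero_left, Nat.cast_zero]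

theorem ip_one (w : D.W) : classInner (RW f w 1) (RW f w 1) = Nat.card ↥(CW D w) := by
  rw [hA.ip _ _ _ _ (fx_one w) (fx_one w)]
  exact congrArg _ (Nat.card_congr (Equiv.subtypeEquivRight fun v => and_iff_left (rel_oo v)))

omit hA in
theorem ip_avg (φ : D.W → ℂ) (ψ : ↥(GF F G) → ℂ) [Fintype D.W] : classInner (avg f ⊤ φ 1 1) ψ =
    (Nat.card D.W : ℂ)⁻¹ * ∑ u, φ u * classInner (RW f u 1) ψ := by
  have h : avg f ⊤ φ 1 1 = (Nat.card D.W : ℂ)⁻¹ • ∑ u, φ u • RW f u 1 := funext fun g => by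
    rw [avg_top, finsum_eq_sum_of_fintype, Pi.smul_apply, Finset.sum_apply]
    rfl
  rw [h, classInner_smul_left, classInner_sum_left]
  simp only [classInner_smul_left]

theorem ip_avg_ne (φ : D.W → ℂ) (w : D.W) {c : Lbl D} (hc : c ≠ 1) : classInner (avg f ⊤ φ 1 1) (RW f w c) = (0 : ℤ) := by
  have := Fintype.ofFinite D.W
  rw [ip_avg, Finset.sum_eq_zero fun u _ => by
    rw [ip_zero hA fun v _ h => hc (eq_one_of_rel' h), Nat.cast_zero, mul_zero], mul_zero, Int.cast_zero]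

theorem ip_avg_one (φ : D.W → ℂ) (w : D.W) (h : ∀ v u, Tc D v u w → φ u = φ w) :
    classInner (avg f ⊤ φ 1 1) (RW f w 1) = φ w := by
  classical
  have := Fintype.ofFinite D.W
  have h1 : ∀ u, φ u * classInner (RW f u 1) (RW f w 1) = ∑ v, if u = v⁻¹ * (w * D.Fw v) then φ w else 0 := fun u => by
    have h2 : ∀ v, Tc D v u w ∧ Rel D v 1 1 ↔ u = v⁻¹ * (w * D.Fw v) := fun v => by
      rw [and_iff_left (rel_oo v), eq_inv_mul_iff_mul_eq]
      exact eq_comm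
    rw [hA.ip _ _ _ _ (fx_one u) (fx_one w), Nat.card_eq_fintype_card, Fintype.card_subtype, Finset.card_filter,
      Nat.cast_sum, Finset.mul_sum]
    refine Finset.sum_congr rfl fun v _ => ?_
    rw [← h2]
    split_ifs with h3
    · rw [h v u h3.1, Nat.cast_one, mul_one]
    · rw [Nat.cast_zero, mul_zero]
  rw [ip_avg, Finset.sum_congr rfl fun u _ => h1 u, Finset.sum_comm]
  simp only [Finset.sum_ite_eq', Finset.mem_univ, if_true, Finset.sum_const, Finset.card_univ, nsmul_eq_mul,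
    Nat.card_eq_fintype_card]
  exact inv_mul_cancel_left₀ (Nat.cast_ne_zero.2 Fintype.card_ne_zero) _

end Api

namespace Cb

variable {Adm : Matrix D.R D.R ℤ → Prop} {w₀ : D.W} (C : Cb D Adm w₀)

theorem z_tc (w : D.W) : Tc D C.z w w := by rw [tc_iff, C.z_eq, mul_neg, neg_mul, mul_one, one_mul]

theorem z_rel (c : Lbl D) : Rel D C.z c⁻¹ c := by
  rw [rel_iff, C.z_eq, transpose_neg, transpose_one, DL.mon_neg, DL.mon_one]

theorem s_fx : Fx D w₀ C.s := C.lvs.fx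

theorem s_fx' : Fx D (C.r * w₀) C.s := C.s_fx.mul C.s_r

theorem s_ne_inv : C.s ≠ C.s⁻¹ := fun h => C.s_ne (by
  have h1 := C.s_cube
  rwa [pow_succ, pow_two, eq_inv_iff_mul_eq_one.1 h, one_mul] at h1)

theorem r_ne : C.r ≠ 1 := fun h => by
  have h1 := C.sg_r
  rw [h, sg_one] at h1
  norm_num at h1

theorem not_tc (v : D.W) : ¬ Tc D v w₀ (C.r * w₀) := fun h => by
  have h1 := sg_tc D h
  rw [sg_mul, C.sg_r] at h1
  rcases sg_sign D w₀ with e | e <;> rw [e] at h1 <;> norm_num at h1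

include hA C

theorem RW_inv (w : D.W) (c : Lbl D) : RW f w c⁻¹ = RW f w c := hA.conj _ _ _ _ _ (C.z_tc w) (C.z_rel c)

theorem parity {c : Lbl D} (h : LeviOK D C.lam w₀ c) (χ : IrrCharacter ↥(GF F G)) :
    2 ∣ mu (RW f w₀ c) χ + mu (RW f (C.r * w₀) c) χ := by
  refine two_dvd_mu (hA.gen _ _) (hA.gen _ _) (hA.levi _ _ _ h) (funext fun g => ?_) χ
  have h1 : (Wl D C.lam : Set D.W) = {1, C.r} := Set.ext C.wl
  have h2 : Nat.card ↥(Wl D C.lam) = 2 := by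
    rw [← SetLike.coe_sort_coe, h1, Nat.card_coe_set_eq, Set.ncard_pair C.r_ne.symm]
  have h3 : ∑ᶠ u : ↥(Wl D C.lam), (1 : ℂ) * RW f (u * w₀) c g = RW f w₀ c g + RW f (C.r * w₀) c g := by
    rw [show ∑ᶠ u : ↥(Wl D C.lam), (1 : ℂ) * RW f (u * w₀) c g = ∑ᶠ u ∈ (Wl D C.lam : Set D.W), RW f (u * w₀) c g by
      simp only [one_mul]; exact finsum_set_coe_eq_finsum_mem (f := fun u => RW f (u * w₀) c g) _, h1,
      finsum_mem_pair C.r_ne.symm, one_mul]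
  rw [Pi.add_apply, Pi.add_apply, avg, h2, h3]
  push_cast
  ring

/-- the membership test -/
theorem mem_iff (hC : Mc f w₀) {M : Ideal AlgInt} (hM : IsPModular 3 M) (χ : IrrCharacter ↥(GF F G)) :
    Mem M χ ↔ ¬ 3 ∣ mu (RW f w₀ 1) χ + 2 * mu (RW f w₀ C.s) χ := by
  classical
  have hfin : {c : Lbl D | Fx D w₀ c}.Finite := finite_Fx D w₀
  obtain ⟨S, hS⟩ : ∃ S : Finset (Lbl D), ∀ c, c ∈ S ↔ Fx D w₀ c ∧ Is3 D c :=
    ⟨hfin.toFinset.filter (Is3 D), fun c => by simp⟩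
  have h1 : Lie.mS f w₀ χ = ((∑ c ∈ S, mu (RW f w₀ c) χ : ℤ) : ℂ) := by
    rw [Lie.mS, Int.cast_sum, ← Finset.sum_congr rfl fun c _ => mu_spec (hA.gen w₀ c) χ]
    refine finsum_mem_eq_sum_of_inter_support_eq (fun c => classInner (χ : ↥(GF F G) → ℂ) (RW f w₀ c))
      (s := {c | Is3 D c}) (Set.ext fun c => ⟨fun h => ⟨(hS c).2 ⟨?_, h.1⟩, h.2⟩, fun h => ⟨((hS c).1 h.1).2, h.2⟩⟩)
    by_contra h2
    exact h.2 (by beta_reduce; rw [hA.zero _ _ h2, classInner_zero_right])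
  rw [hC.all C.reg M hM χ _ h1]
  have h2 : ({1, C.s, C.s⁻¹} : Finset (Lbl D)) ⊆ S := by
    intro c hc
    simp only [Finset.mem_insert, Finset.mem_singleton] at hc
    rcases hc with rfl | rfl | rfl
    · exact (hS _).2 ⟨fx_one _, 0, one_pow _⟩
    · exact (hS _).2 ⟨C.s_fx, 1, C.s_cube⟩
    · exact (hS _).2 ⟨fx_inv C.s_fx, 1, by rw [inv_pow, pow_one, C.s_cube, inv_one]⟩
  have h3 : ∀ c, Rel D C.σ (mon (D.Wm C.σ)ᵀ c) c := fun c => rel_iff.2 rfl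
  have h4 : ∀ c, mon (D.Wm C.σ)ᵀ (mon (D.Wm C.σ)ᵀ (mon (D.Wm C.σ)ᵀ c)) = c := fun c => by
    have h5 := ((h3 _).trans (h3 _)).trans (h3 c)
    rw [← mul_assoc, ← pow_three', C.σ_cube, rel_iff, D.Wm_one, transpose_one, DL.mon_one] at h5
    exact h5
  have h5 : ∀ c, c ∈ ({1, C.s, C.s⁻¹} : Finset (Lbl D)) → mon (D.Wm C.σ)ᵀ c = c := by
    intro c hc
    simp only [Finset.mem_insert, Finset.mem_singleton] at hc
    rcases hc with rfl | rfl | rfl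
    · exact map_one _
    · exact (rel_iff.1 C.s_σ).symm
    · exact (rel_iff.1 (rel_inv C.s_σ)).symm
  have h6 := three_dvd_sum (mon (D.Wm C.σ)ᵀ) (fun c => mu (RW f w₀ c) χ) (S \ {1, C.s, C.s⁻¹}) (fun c _ => h4 c)
    (fun c hc => by
      obtain ⟨h7, h8⟩ := Finset.mem_sdiff.1 hc
      obtain ⟨h9, j, hj⟩ := (hS c).1 h7
      refine Finset.mem_sdiff.2 ⟨(hS _).2 ⟨fx_of_tc (Tc.symm C.σ_mem) (h3 c).symm h9, j, by
        rw [← map_pow, hj, map_one]⟩, fun h10 => h8 ?_⟩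
      rw [← h4 c, h5 _ h10, h5 _ h10]
      exact h10)
    (fun c _ => by rw [hA.conj _ _ _ _ _ C.σ_mem (h3 c)]) fun c hc e => by
      obtain ⟨h7, h8⟩ := Finset.mem_sdiff.1 hc
      obtain ⟨h9, h10⟩ := (hS c).1 h7
      exact h8 (by simpa using C.fixed c h9 h10 (rel_iff.2 e.symm))
  rw [← Finset.sum_sdiff h2, Finset.sum_insert (by simp [C.s_ne.symm, C.s_ne]), Finset.sum_pair C.s_ne_inv,
    C.RW_inv hA, Int.dvd_add_right h6, two_mul]

variable [Fintype (IrrCharacter ↥(GF F G))]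

theorem norm1 : ∑ χ, mu (RW f w₀ 1) χ ^ 2 = 12 := sum_mu_sq (n := 12) (hA.gen _ _) (by rw [ip_one hA, C.n1])

theorem norm2 : ∑ χ, mu (RW f (C.r * w₀) 1) χ ^ 2 = 4 := sum_mu_sq (n := 4) (hA.gen _ _) (by rw [ip_one hA, C.n2])

theorem norm3 : ∑ χ, mu (RW f w₀ C.s) χ ^ 2 = 6 :=
  sum_mu_sq (n := 6) (hA.gen _ _) (by rw [hA.ip _ _ _ _ C.s_fx C.s_fx, C.n3])

theorem norm4 : ∑ χ, mu (RW f (C.r * w₀) C.s) χ ^ 2 = 2 :=
  sum_mu_sq (n := 2) (hA.gen _ _) (by rw [hA.ip _ _ _ _ C.s_fx' C.s_fx', C.n4])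

omit [Fintype (IrrCharacter ↥(GF F G))]

/-- at most nine members -/
theorem k0_le (hC : Mc f w₀) {M : Ideal AlgInt} (hM : IsPModular 3 M) : k0 M ↥(GF F G) ≤ 9 := by
  classical
  have := finite_irr (G := ↥(GF F G))
  have := Fintype.ofFinite (IrrCharacter ↥(GF F G))
  have h1 := supp_le (C.parity hA C.lv1)
  have h2 := supp_le (C.parity hA C.lvs)
  rw [C.norm1 hA, C.norm2 hA] at h1
  rw [C.norm3 hA, C.norm4 hA] at h2
  have h3 : (Finset.univ.filter fun χ : IrrCharacter ↥(GF F G) => Mem M χ) ⊆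
      (Finset.univ.filter fun χ => mu (RW f w₀ 1) χ ≠ 0) ∪ Finset.univ.filter fun χ => mu (RW f w₀ C.s) χ ≠ 0 := by
    intro χ hχ
    have h4 := (C.mem_iff hA hC hM χ).1 (Finset.mem_filter.1 hχ).2
    simp only [Finset.mem_union, Finset.mem_filter, Finset.mem_univ, true_and]
    omega
  have h4 := (Finset.card_le_card h3).trans (Finset.card_union_le _ _)
  rw [k0_eq, Nat.card_eq_fintype_card, Fintype.card_subtype]
  omega

theorem RW_aut {α : MulAut Y} {A : Matrix D.R D.R ℤ} (h : Au D α A) (h' : Adm A) {w : D.W} (hw : Fx D w C.s)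
    (g : ↥(GF F G)) : RW f w C.s (h.aut g) = RW f w C.s g := by
  obtain ⟨n, hn, rfl⟩ := C.adm A h'
  rw [((hA.aut α _ h).2 w w _ C.s (by rw [mul_smul_comm, smul_mul_assoc, mul_one, one_mul]) (tr_iff.2 rfl) hw).2 g _
    (h.coe_aut g), mon_smul_one]
  rcases zpow_of_cube C.s_cube hn with ⟨-, e⟩ | ⟨-, e⟩ <;> rw [e]
  rw [C.RW_inv hA]

/-- three canonical members -/
theorem exists_three (hC : Mc f w₀) {M : Ideal AlgInt} (hM : IsPModular 3 M) :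
    ∃ e : Fin 3 → IrrCharacter ↥(GF F G), Function.Injective e ∧ ∀ i, Mem M (e i) ∧ Nontriv (e i) ∧
      ∀ α A (h : Au D α A), Adm A → ∀ g, (e i).1 (h.aut g) = (e i).1 g := by
  classical
  have := finite_irr (G := ↥(GF F G))
  have := Fintype.ofFinite (IrrCharacter ↥(GF F G))
  have t0 : ∀ w, mu (RW f w C.s) (Tool.triv _) = 0 := fun w =>
    mu_eq (by rw [← ip_avg_ne hA (fun _ => 1) w C.s_ne, hA.one]; rfl)
  have t1 : ∀ w, mu (RW f w 1) (Tool.triv _) = 1 := fun w =>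
    mu_eq (by rw [Int.cast_one, ← ip_avg_one hA (fun _ => 1) w fun _ _ _ => rfl, hA.one]; rfl)
  have s1 : ∀ w, mu (RW f w 1) ⟨_, hA.st.1⟩ = sgZ D w := fun w =>
    mu_eq (ip_avg_one hA (sg D) w fun _ _ h => (sg_tc D h).symm)
  have ne : Tool.triv ↥(GF F G) ≠ ⟨_, hA.st.1⟩ := fun e => by
    have h1 := s1 C.r
    rw [← e, t1] at h1
    have h2 := C.sg_r
    rw [sg_eq, ← h1] at h2
    norm_num at h2
  obtain ⟨e, he, h⟩ := G2.exists_three (C.parity hA C.lvs) (C.norm3 hA) (C.norm4 hA)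
    (sum_mu (n := 0) (hA.gen _ _) (hA.gen _ _) (ip_zero hA fun v h _ => C.not_tc v h)) (C.parity hA C.lv1)
    (C.norm1 hA) (C.norm2 hA)
    (sum_mu (n := 0) (hA.gen _ _) (hA.gen _ _) (ip_zero hA fun v _ h => C.s_ne (eq_one_of_rel' h)))
    (sum_mu (n := 0) (hA.gen _ _) (hA.gen _ _) (ip_zero hA fun v _ h => C.s_ne (eq_one_of_rel' h))) ne (t0 _)
    (mu_eq (ip_avg_ne hA _ _ C.s_ne)) (by rw [t1]; omega) (by rw [s1]; have := sgZ_sign D w₀; omega)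
  refine ⟨e, he, fun i => ?_⟩
  obtain ⟨h1, h2, h3⟩ := h i
  refine ⟨(C.mem_iff hA hC hM _).2 (by omega), Tool.nontriv_iff.2 fun e => h2 (by rw [e, t0]; exact dvd_zero 3),
    fun α A h h' g => ?_⟩
  have h4 := h3 ⟨_, isIrr_comp h.aut.toMonoidHom h.aut.surjective (e i).2⟩
    (mu_aut h.aut (C.RW_aut hA h h' C.s_fx) fun _ => rfl) (mu_aut h.aut (C.RW_aut hA h h' C.s_fx') fun _ => rfl)
  exact congrFun (congrArg Subtype.val h4) g

end Cb

end Cfsg.Agent.KZ.G2
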