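import Cfsg.Agent.KZ.G2.Chr

/-!
# KZ, `G₂(q)` and `³D₄(q)`: the combinatorial input in terms of matrices (helper50)

`Cm D P` : conditions on the matrices of the Weyl group, the Frobenius matrix is a multiple of `P`; `Cm.exists_cb`.
-/

set_option autoImplicit false
set_option linter.unusedSectionVars false

namespace Cfsg.Agent.KZ.G2

open Cfsg Cfsg.Agent.DL Cfsg.Agent.DL.PP Cfsg.Agent.DL.Uni Cfsg.Agent.DL.Asm Cfsg.Agent.KZ.Lie Matrix

variable {p : ℕ} [Fact p.Prime] {k : Type} [Field k] [CharP k p] {Y : Type} [Group Y] {N : Type} [Fintype N]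
  [DecidableEq N] {ρ : Y →* GL N k} {F : MulAut Y} {G : Subgroup Y} [IsAlgClosed k] {D : Datum p ρ F G}

theorem lt_three {a b x g h : ℤ} (hb : b ≠ 0) (hg : ¬ 3 ∣ g) (e1 : a = x * g) (e2 : b = x * (3 * h)) :
    a.natAbs.factorization 3 < b.natAbs.factorization 3 := by
  have hx : x.natAbs ≠ 0 := fun e => hb (by rw [e2, Int.natAbs_eq_zero.1 e, zero_mul])
  have hh : (3 * h).natAbs ≠ 0 := fun e => hb (by rw [e2, Int.natAbs_eq_zero.1 e, mul_zero])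
  have hg0 : g.natAbs ≠ 0 := by omega
  rw [e1, e2, Int.natAbs_mul, Int.natAbs_mul x, Nat.factorization_mul hx hg0, Nat.factorization_mul hx hh,
    Finsupp.add_apply, Finsupp.add_apply, Nat.factorization_eq_zero_of_not_dvd (n := g.natAbs) (by omega)]
  have := Nat.prime_three.factorization_pos_of_dvd hh (by omega)
  omega

theorem exists_omega : ∃ ω : ℂˣ, IsPrimitiveRoot ω 3 :=
  have h := Complex.isPrimitiveRoot_exp 3 (by norm_num)
  ⟨(h.isUnit (by norm_num)).unit, h.isUnit_unit (by norm_num)⟩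

theorem tr_coch {ω : ℂˣ} (hω : IsPrimitiveRoot ω 3) {B : Matrix D.R D.R ℤ} {x : D.R → ℤ} :
    Tr D B (coch x ω) (coch x ω) ↔ ∀ j, 3 ∣ (x ᵥ* B - x) j := by
  rw [tr_iff, DL.mon_coch, mulVec_transpose, funext_iff]
  refine forall_congr' fun j => ?_
  show ω ^ x j = ω ^ (x ᵥ* B) j ↔ ((3 : ℕ) : ℤ) ∣ (x ᵥ* B) j - x j
  rw [← hω.zpow_eq_one_iff_dvd, _root_.zpow_sub, mul_inv_eq_one, eq_comm]

variable (D) in
/-- conditions on the matrices -/
structure Cm (P : Matrix D.R D.R ℤ) where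
  z : D.W
  σ : D.W
  r : D.W
  xs : D.R → ℤ
  y0 : D.R → ℤ
  lam : D.R → ℤ
  Z : Matrix D.R D.R ℤ
  U1 : Matrix D.R D.R ℤ
  U2 : Matrix D.R D.R ℤ
  U3 : Matrix D.R D.R ℤ
  Ys : Matrix D.R D.R ℤ
  Yt : Matrix D.R D.R ℤ
  z_eq : D.Wm z = -1
  σP : P * D.Wm σ = D.Wm σ * P
  σ_ne : D.Wm σ ≠ 1
  σ3 : D.Wm σ * D.Wm σ * D.Wm σ = 1
  rP : P * D.Wm r = D.Wm r * P
  rσ : D.Wm σ * D.Wm r * D.Wm σ = D.Wm r
  sg_r : sg D r = -1
  three : ∀ x, P * D.Wm x = D.Wm x * P →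
    D.Wm x * D.Wm x = 1 ∨ D.Wm x * D.Wm x = D.Wm σ ∨ D.Wm x * D.Wm x = D.Wm σ * D.Wm σ
  xs_σ : ∀ j, 3 ∣ (xs ᵥ* D.Wm σ - xs) j
  xs_r : xs ᵥ* D.Wm r = xs
  xs_P : ∀ j, 3 ∣ (xs ᵥ* P - xs) j
  xs_ne : ∃ j, ¬ 3 ∣ xs j
  hZ : 1 + P + P * P = (D.Wm σ - 1) * Z
  hU : 1 = vecMulVec y0 xs + (D.Wm σ - 1) * U1 + (P - 1) * U2 + (3 : ℤ) • U3
  Ys_P : Ys * P = Ys
  faith : ∀ x, P * D.Wm x = D.Wm x * P → (∀ i j, 3 ∣ (Ys * D.Wm x - Ys) i j) → D.Wm x = 1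
  Yt_P : P * Yt = Yt
  reg : ∀ x, (∀ i j, 3 ∣ (D.Wm x * Yt - Yt) i j) → D.Wm x = 1
  wl : ∀ u, D.Wm u *ᵥ lam = lam → D.Wm u = 1 ∨ D.Wm u = D.Wm r
  r_lam : D.Wm r *ᵥ lam = lam
  P_lam : P *ᵥ lam = lam
  n1 : Nat.card {v // P * D.Wm v = D.Wm v * P} = 12
  n2 : Nat.card {v // D.Wm r * P * D.Wm v = D.Wm v * (D.Wm r * P)} = 4
  n3 : Nat.card {v // P * D.Wm v = D.Wm v * P ∧ ∀ j, 3 ∣ (xs ᵥ* D.Wm v - xs) j} = 6
  n4 : Nat.card {v // D.Wm r * P * D.Wm v = D.Wm v * (D.Wm r * P) ∧ ∀ j, 3 ∣ (xs ᵥ* D.Wm v - xs) j} = 2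
  syl : ∀ w, (∃ v, D.Wm w * P * D.Wm v = D.Wm v * P) ∨ ∀ n : ℤ, ∃ x g h, ¬ 3 ∣ g ∧
    ((3 * n + 1) • (D.Wm w * P) - 1).det = x * g ∧ ((3 * n + 1) • P - 1).det = x * (3 * h)
  w9 : ¬ 9 ∣ Nat.card D.W

theorem wm_one {x : D.W} (h : D.Wm x = 1) : x = 1 := D.Wm_injective (h.trans D.Wm_one.symm)

variable (D) in
theorem sg_smp (i : D.I) : sg D (D.cs.simple i) = -1 := by
  rw [← D.rf_sr, sg_eq, sgZ_rf D (Tits.Roots.isRoot_sr _ _ i)]
  norm_num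

namespace Cm

variable {P : Matrix D.R D.R ℤ} (C : Cm D P) {w₀ : D.W} {n : ℤ} (h0 : D.Wm w₀ * D.Mx = (3 * n + 1) • P)
include h0 C

omit C in
theorem mx (w : D.W) : D.Wm (w * w₀) * D.Mx = (3 * n + 1) • (D.Wm w * P) := by
  rw [D.Wm_mul, mul_assoc, h0, mul_smul_comm]

omit C in
theorem tc {v w w' : D.W} : Tc D v (w * w₀) (w' * w₀) ↔ D.Wm w' * P * D.Wm v = D.Wm v * (D.Wm w * P) := by
  rw [tc_iff, mx h0, mx h0, smul_mul_assoc, mul_smul_comm]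
  exact (smul_right_injective _ (by omega)).eq_iff

omit C in
theorem tc0 {v : D.W} : Tc D v w₀ w₀ ↔ P * D.Wm v = D.Wm v * P := by
  have h := tc h0 (v := v) (w := 1) (w' := 1)
  rwa [one_mul, D.Wm_one, one_mul] at h

omit C in
theorem fx_coch {ω : ℂˣ} (hω : IsPrimitiveRoot ω 3) {x : D.R → ℤ} (h : ∀ j, 3 ∣ (x ᵥ* P - x) j) :
    Fx D w₀ (coch x ω) := (tr_coch hω).2 fun j => by
  have h1 := h j
  rw [h0, vecMul_smul]
  simp only [Pi.sub_apply, Pi.smul_apply, smul_eq_mul] at h1 ⊢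
  rw [show (3 * n + 1) * (x ᵥ* P) j - x j = 3 * (n * (x ᵥ* P) j) + ((x ᵥ* P) j - x j) by ring]
  exact dvd_add (dvd_mul_right _ _) h1

theorem levi {c : Lbl D} (hc : Fx D w₀ c) {ξ : ℂˣ} (h : c = coch C.xs ξ) : LeviOK D C.lam w₀ c where
  stab a ha h1 := by
    have h2 := congrArg (· ⬝ᵥ C.lam) (wt_gw (D := D) w₀ ha)
    simp only [h0] at h2
    rw [← dotProduct_mulVec, smul_mulVec, C.P_lam, dotProduct_smul, smul_dotProduct, h1, smul_zero, smul_eq_zero] at h2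
    exact h2.resolve_left (by omega)
  fx := hc
  cen := ⟨ξ, C.xs, fun a ha h1 => by
    have h2 : D.Wm (D.rf a) *ᵥ C.lam = C.lam := by
      rw [D.Wm_rf ha, sub_mulVec, one_mulVec, vecMulVec_mulVec, h1]
      simp
    rcases C.wl _ h2 with e | e
    · have h3 := sgZ_rf D ha
      rw [wm_one e, map_one] at h3
      norm_num at h3
    · have h3 := C.xs_r
      rw [← e, D.Wm_rf ha, vecMul_sub, vecMul_one, vecMul_vecMulVec, sub_eq_self, smul_eq_zero] at h3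
      exact h3.resolve_right (D.wt_ne_zero ha), h⟩

theorem fixed {ω : ℂˣ} (hω : IsPrimitiveRoot ω 3) {c : Lbl D} (h1 : Fx D w₀ c) (h2 : Is3 D c) (h3 : Rel D C.σ c c) :
    c = 1 ∨ c = coch C.xs ω ∨ c = (coch C.xs ω)⁻¹ := by
  obtain ⟨j, hj⟩ := h2
  have a1 : ∀ v, chr ((D.Wm C.σ - 1) *ᵥ v) c = 1 := fun v => by
    rw [sub_mulVec, one_mulVec, DL.chr_sub, h3, mul_inv_cancel]
  have a2 : ∀ v, chr (P *ᵥ v) c ^ (3 * n + 1) = chr v c := fun v => by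
    rw [← DL.chr_zsmul, ← smul_mulVec, ← h0, h1]
  have a3 : ∀ v, chr v c ^ (3 : ℤ) = 1 := fun v => by
    have b1 : chr v c * chr (P *ᵥ v) c * chr (P *ᵥ P *ᵥ v) c = 1 := by
      rw [← DL.chr_add, ← DL.chr_add, ← a1 (C.Z *ᵥ v), mulVec_mulVec, mulVec_mulVec, ← C.hZ, add_mulVec, add_mulVec,
        one_mulVec]
    have b2 : chr v c ^ ((3 : ℤ) ^ j) = 1 := by
      rw [show (3 : ℤ) ^ j = (3 ^ j : ℕ) by push_cast; rfl, zpow_natCast, ← map_pow, hj, map_one]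
    obtain ⟨d, hd⟩ : ∃ d, d = chr (P *ᵥ P *ᵥ v) c := ⟨_, rfl⟩
    have b3 : d ^ (3 * (3 * n ^ 2 + 3 * n + 1)) = 1 := by
      rw [← b1, ← a2 v, ← a2 (P *ᵥ v), ← hd, ← _root_.zpow_mul, ← _root_.zpow_add, ← _root_.zpow_add_one]
      congr 1
      ring
    have b4 : chr v c ^ (3 * (3 * n ^ 2 + 3 * n + 1)) = 1 := by
      rw [← a2 v, ← a2 (P *ᵥ v), ← hd, ← _root_.zpow_mul, ← _root_.zpow_mul, mul_comm (3 * n + 1), mul_comm (3 * n + 1),
        mul_assoc, _root_.zpow_mul, b3, _root_.one_zpow]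
    obtain ⟨a, b, hab⟩ : IsCoprime (3 * n ^ 2 + 3 * n + 1) ((3 : ℤ) ^ j) :=
      IsCoprime.pow_right ⟨1, -(n ^ 2 + n), by ring⟩
    rw [show (3 : ℤ) = 3 * (3 * n ^ 2 + 3 * n + 1) * a + 3 ^ j * (3 * b) by linear_combination (-3) * hab,
      _root_.zpow_add, _root_.zpow_mul, _root_.zpow_mul _ (3 ^ j), b4, b2, _root_.one_zpow, _root_.one_zpow, mul_one]
  have a4 : ∀ v, chr ((P - 1) *ᵥ v) c = 1 := fun v => by
    rw [sub_mulVec, one_mulVec, DL.chr_sub, ← a2 v, _root_.zpow_add_one, _root_.zpow_mul, a3, _root_.one_zpow, one_mul,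
      mul_inv_cancel]
  have a5 : c = coch C.xs (chr C.y0 c) := eq_of_chr D fun v => by
    have b1 := congrArg (fun B => chr (B *ᵥ v) c) C.hU
    simp only [one_mulVec, add_mulVec, DL.chr_add, ← mulVec_mulVec, a1, a4, smul_mulVec, DL.chr_zsmul, a3, mul_one,
      vecMulVec_mulVec, op_smul_eq_smul] at b1
    rw [b1, DL.chr_coch, dotProduct_comm]
    rfl
  obtain ⟨i, hi, h4⟩ := hω.eq_pow_of_mem_rootsOfUnity (ξ := chr C.y0 c) (by
    rw [mem_rootsOfUnity, ← zpow_natCast]; exact a3 _)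
  rw [a5, ← h4]
  interval_cases i
  · exact .inl (by rw [pow_zero, map_one])
  · exact .inr (.inl (by rw [pow_one]))
  · exact .inr (.inr (by rw [← map_inv, eq_inv_of_mul_eq_one_left ((pow_succ ω 2).symm.trans hω.pow_eq_one)]))

theorem regC : RegC D w₀ := fun v _ h => wm_one (C.reg v fun i j => by
  have h1 := h 1 (C.Ytᵀ j) (fun i => ⟨n * C.Yt i j, by
    show ((D.Wm w₀ * D.Mx - 1) * C.Yt) i j = _
    rw [h0, sub_mul, smul_mul_assoc, C.Yt_P, one_mul, Matrix.sub_apply, Matrix.smul_apply, smul_eq_mul]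
    ring⟩) i
  rw [pow_one] at h1
  rw [show D.Wm v * C.Yt - C.Yt = (D.Wm v - 1) * C.Yt by rw [sub_mul, one_mul]]
  exact h1)

theorem card0 : Nat.card ↥(CW D w₀) = 12 :=
  (Nat.card_congr (Equiv.subtypeEquivRight fun _ => tc0 h0)).trans C.n1

theorem sylC : SylC D w₀ := fun w hw => by
  obtain ⟨u, rfl⟩ : ∃ u, w = u * w₀ := ⟨w * w₀⁻¹, by simp⟩
  rcases C.syl u with ⟨v, hv⟩ | h
  · refine absurd ?_ (hw v)
    have h1 := (tc h0 (v := v) (w := 1) (w' := u)).2 (by rw [hv, D.Wm_one, one_mul])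
    rwa [one_mul] at h1
  · obtain ⟨x, g, h, h1, h2, h3⟩ := h n
    have h4 : (ordT D (u * w₀)).factorization 3 < (ordT D w₀).factorization 3 :=
      lt_three (det_ne_zero D w₀) h1 (by rw [mx h0, h2]) (by rw [h0, h3])
    have h5 : (Nat.card ↥(CW D (u * w₀))).factorization 3 < 2 :=
      not_le.1 fun e => C.w9 (((Nat.prime_three.pow_dvd_iff_le_factorization Nat.card_pos.ne').2 e).trans
        (Subgroup.card_subgroup_dvd_card _))
    rw [Nat.factorization_mul (ordT_ne _) Nat.card_pos.ne', Nat.factorization_mul (ordT_ne _) Nat.card_pos.ne',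
      Finsupp.add_apply, Finsupp.add_apply, C.card0 h0]
    have h6 := Nat.prime_three.factorization_pos_of_dvd (n := 12) (by norm_num) (by norm_num)
    omega

omit h0

/-- the combinatorial input -/
theorem exists_cb {q : ℤ} (hq : ¬ 3 ∣ q) (hM : D.Mx = q • P) {Adm : Matrix D.R D.R ℤ → Prop}
    (hA : ∀ A, Adm A → ∃ n : ℤ, ¬ 3 ∣ n ∧ A = n • 1) : ∃ w₀, Nonempty (Cb D Adm w₀) := by
  obtain ⟨w₀, n, h0⟩ : ∃ (w₀ : D.W) (n : ℤ), D.Wm w₀ * D.Mx = (3 * n + 1) • P := by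
    rcases (by omega : 3 ∣ q - 1 ∨ 3 ∣ -q - 1) with ⟨n, hn⟩ | ⟨n, hn⟩
    · exact ⟨1, n, by rw [D.Wm_one, one_mul, hM, show q = 3 * n + 1 by omega]⟩
    · exact ⟨C.z, n, by rw [C.z_eq, hM, neg_mul, one_mul, ← neg_smul, show -q = 3 * n + 1 by omega]⟩
  obtain ⟨ω, hω⟩ := exists_omega
  have c3 : ∀ x : D.R → ℤ, coch x ω ^ 3 = 1 := fun x => by rw [← map_pow, hω.pow_eq_one, map_one]
  exact ⟨w₀, ⟨{
    z := C.z
    σ := C.σ
    r := C.r
    s := coch C.xs ω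
    lam := C.lam
    z_eq := C.z_eq
    σ_mem := (tc0 h0).2 C.σP
    σ_ne := fun h => C.σ_ne (by rw [h, D.Wm_one])
    σ_cube := wm_one (by rw [pow_three', D.Wm_mul, D.Wm_mul, C.σ3])
    r_mem := (tc0 h0).2 C.rP
    rσ := by
      have h : C.σ * C.r * C.σ = C.r := D.Wm_injective (by rw [D.Wm_mul, D.Wm_mul, C.rσ])
      calc C.r * C.σ * C.r⁻¹ * C.σ = C.r * C.σ * (C.σ * C.r * C.σ)⁻¹ * C.σ := by rw [h]
        _ = 1 := by group
    sg_r := C.sg_r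
    three := fun x hx => by
      rcases C.three x ((tc0 h0).1 hx) with e | e | e
      · exact .inl (wm_one (by rw [D.Wm_mul, e]))
      · exact .inr (.inl (D.Wm_injective (by rw [D.Wm_mul, e])))
      · exact .inr (.inr (D.Wm_injective (by rw [D.Wm_mul, e, D.Wm_mul])))
    s_cube := c3 _
    s_ne := fun h => by
      obtain ⟨j, hj⟩ := C.xs_ne
      exact hj ((hω.zpow_eq_one_iff_dvd _).1 (congrFun h j))
    s_σ := (tr_coch hω).2 C.xs_σ
    s_r := (tr_coch hω).2 fun j => by rw [C.xs_r, sub_self]; exact dvd_zero 3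
    fixed := fun c => C.fixed h0 hω
    faith := fun x hx h => wm_one (C.faith x ((tc0 h0).1 hx) fun i => (tr_coch hω).1 (h (coch (C.Ys i) ω)
      (fx_coch h0 hω fun j => by
        show 3 ∣ (C.Ys * P - C.Ys) i j
        rw [C.Ys_P, sub_self]
        exact dvd_zero 3) (c3 _)))
    wl := fun u => ⟨fun h => (C.wl u h).imp wm_one fun e => D.Wm_injective e, fun h => by
      rcases h with rfl | rfl
      · exact one_mem _
      · exact C.r_lam⟩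
    lv1 := C.levi h0 (fx_one _) (map_one _).symm
    lvs := C.levi h0 (fx_coch h0 hω C.xs_P) rfl
    n1 := C.card0 h0
    n2 := (Nat.card_congr (Equiv.subtypeEquivRight fun _ => tc h0)).trans C.n2
    n3 := (Nat.card_congr (Equiv.subtypeEquivRight fun _ => and_congr (tc0 h0) (tr_coch hω))).trans C.n3
    n4 := (Nat.card_congr (Equiv.subtypeEquivRight fun _ => and_congr (tc h0) (tr_coch hω))).trans C.n4
    adm := hA
    reg := C.regC h0
    syl := C.sylC h0 }⟩⟩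

end Cm

end Cfsg.Agent.KZ.G2
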