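import Cfsg.Agent.KZ.Spor.Syl
import Cfsg.Agent.KZ.Tool.Res

/-!
# KZ, `G₂(q)` and `³D₄(q)`: the normaliser of the Sylow torus, abstractly (helper50)

`LG N T` : `T ≤ N` are normal subgroups of `K`, `T` abelian, `N / T` looks like `D₁₂`.
* `LG.nab_le` : index prime to `3` gives `nab P ≤ 9`; `LG.sup_cent` : and `N ⊔ C(P) = ⊤`;
* `LG.le_nab` : index divisible by `3` gives `27 ≤ nab P`.
-/

set_option autoImplicit false

namespace Cfsg.Agent.KZ.G2

open Cfsg Subgroup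
open scoped commutatorElement

variable {K : Type} [Group K] {N T : Subgroup K} [hT : T.Normal]

/-- the stabiliser of a linear character of `T` -/
def stb (μ : ↥T →* ℂˣ) : Subgroup K where
  carrier := {x | ∀ t : ↥T, μ (MulAut.conjNormal x t) = μ t}
  one_mem' t := by rw [map_one, MulAut.one_apply]
  mul_mem' {a b} ha hb t := by rw [map_mul, MulAut.mul_apply, ha, hb]
  inv_mem' {a} ha t := by rw [← ha, ← MulAut.mul_apply, ← map_mul, mul_inv_cancel, map_one, MulAut.one_apply]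

theorem mem_stb {μ : ↥T →* ℂˣ} {x : K} : x ∈ stb μ ↔ ∀ t : ↥T, μ (MulAut.conjNormal x t) = μ t := Iff.rfl

/-- the conjugate of a character -/
def cjm (μ : ↥T →* ℂˣ) (x : K) : ↥T →* ℂˣ := μ.comp (MulAut.conjNormal x : MulAut ↥T).toMonoidHom

theorem cjm_apply (μ : ↥T →* ℂˣ) (x : K) (t : ↥T) : cjm μ x t = μ (MulAut.conjNormal x t) := rfl

theorem cjm_pow {μ : ↥T →* ℂˣ} {n : ℕ} (h : μ ^ n = 1) (x : K) : cjm μ x ^ n = 1 :=
  MonoidHom.ext fun t => DFunLike.congr_fun h (MulAut.conjNormal x t)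

variable (T) in
/-- the elements which fix all characters of order dividing `3` -/
def HH : Subgroup K := ⨅ (μ : ↥T →* ℂˣ) (_ : μ ^ 3 = 1), stb μ

theorem mem_HH {x : K} : x ∈ HH T ↔ ∀ μ : ↥T →* ℂˣ, μ ^ 3 = 1 → x ∈ stb μ := by
  simp only [HH, mem_iInf]

instance HH_normal : (HH T).Normal := ⟨fun x hx g => mem_HH.2 fun μ hμ t => by
  have h := mem_HH.1 hx (cjm μ g) (cjm_pow hμ g) (MulAut.conjNormal g⁻¹ t)
  rw [cjm_apply, cjm_apply, ← MulAut.mul_apply, ← MulAut.mul_apply, ← MulAut.mul_apply, ← map_mul, ← map_mul, ← map_mul,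
    mul_inv_cancel, map_one, MulAut.one_apply] at h
  exact h⟩

/-- an element of `HH T` has a power which fixes the characters of `3`-power order -/
theorem pow_mem_stb {h : K} (hh : h ∈ HH T) (j : ℕ) : ∀ μ : ↥T →* ℂˣ, μ ^ 3 ^ j = 1 → h ^ 3 ^ j ∈ stb μ := by
  induction j with
  | zero =>
    intro μ hμ t
    rw [pow_zero, pow_one] at hμ
    rw [hμ]
    rfl
  | succ j ih =>
    intro μ hμ t
    have h1 := ih (μ ^ 3) (by rw [← pow_mul, ← pow_succ', hμ])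
    rw [pow_succ, pow_mul]
    have h2 : h ^ 3 ^ j ∈ HH T := pow_mem hh _
    generalize h ^ 3 ^ j = y at h1 h2
    have h3 : (cjm μ y * μ⁻¹) ^ 3 = 1 := MonoidHom.ext fun s => by
      have h4 : μ (MulAut.conjNormal y s) ^ 3 = μ s ^ 3 := h1 s
      show (μ (MulAut.conjNormal y s) * (μ s)⁻¹) ^ 3 = 1
      rw [mul_pow, h4, inv_pow, mul_inv_cancel]
    have h4 : ∀ s, μ (MulAut.conjNormal y (MulAut.conjNormal y s)) * (μ (MulAut.conjNormal y s))⁻¹ =
        μ (MulAut.conjNormal y s) * (μ s)⁻¹ := mem_HH.1 h2 _ h3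
    have h5 : (μ (MulAut.conjNormal y t) * (μ t)⁻¹) ^ 3 = 1 := DFunLike.congr_fun h3 t
    rw [pow_succ, pow_two, map_mul, map_mul, MulAut.mul_apply, MulAut.mul_apply]
    have h6 := h4 (MulAut.conjNormal y t)
    have h7 := h4 t
    rw [h7] at h6
    generalize μ (MulAut.conjNormal y (MulAut.conjNormal y (MulAut.conjNormal y t))) = d at *
    generalize μ (MulAut.conjNormal y (MulAut.conjNormal y t)) = c at *
    generalize μ (MulAut.conjNormal y t) = b at *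
    generalize μ t = a at *
    calc d = (d * c⁻¹) * (c * b⁻¹) * (b * a⁻¹) * a := by group
      _ = (b * a⁻¹) ^ 3 * a := by rw [h6, h7, pow_succ, pow_two]
      _ = a := by rw [h5, one_mul]

variable (N T) in
/-- the local structure -/
structure LG where
  normal : N.Normal
  le : T ≤ N
  comm : ∀ a ∈ T, ∀ b ∈ T, a * b = b * a
  act : ∀ x : K, ∃ n ∈ N, n⁻¹ * x ∈ HH T
  faith : ∀ x ∈ N, x ∈ HH T → x ∈ T
  g : K
  r : K
  g_mem : g ∈ N
  r_mem : r ∈ N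
  g_not : g ∉ T
  g_cube : g ^ 3 ∈ T
  rg : r * g * r⁻¹ * g ∈ T
  three : ∀ x ∈ N, ∀ j : ℕ, x ^ 3 ^ j ∈ T → x ∈ T ∨ x * g⁻¹ ∈ T ∨ x * g ∈ T
  θ : ↥T →* ℂˣ
  θ_cube : θ ^ 3 = 1
  θ_ne : θ ≠ 1
  θ_g : g ∈ stb θ
  θ_r : r ∈ stb θ
  fixed : ∀ (μ : ↥T →* ℂˣ) (j : ℕ), μ ^ 3 ^ j = 1 → g ∈ stb μ → μ = 1 ∨ μ = θ ∨ μ = θ⁻¹

omit hT in
theorem exists_conj_mem [Finite K] (P : Sylow 3 K) {x : K} {j : ℕ} (hx : x ^ 3 ^ j = 1) :
    ∃ a : K, a * x * a⁻¹ ∈ (P : Subgroup K) := by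
  have : Fact (Nat.Prime 3) := ⟨Nat.prime_three⟩
  have h1 : IsPGroup 3 (zpowers x) :=
    IsPGroup.of_card_dvd_pow (n := j) (by rw [Nat.card_zpowers]; exact orderOf_dvd_of_pow_eq_one hx)
  obtain ⟨Q, hQ⟩ := h1.exists_le_sylow
  obtain ⟨a, rfl⟩ := MulAction.exists_smul_eq K Q P
  exact ⟨a, Subgroup.smul_mem_pointwise_smul x (MulAut.conj a) _ (hQ (mem_zpowers x))⟩

omit hT in
theorem three_le_relIndex [Finite K] {A B : Subgroup K} (hB : IsPGroup 3 B) (h : ¬ B ≤ A) : 3 ∣ A.relIndex B := by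
  have : Fact (Nat.Prime 3) := ⟨Nat.prime_three⟩
  obtain ⟨n, hn⟩ := hB.index (A.subgroupOf B)
  rw [relIndex, hn]
  refine dvd_pow_self 3 ?_
  rintro rfl
  exact h (relIndex_eq_one.1 hn)

namespace LG

variable (L : LG N T)
include L

theorem le_stb (μ : ↥T →* ℂˣ) : T ≤ stb μ := fun x hx t => by
  congr 1
  apply Subtype.ext
  rw [MulAut.conjNormal_apply, L.comm x hx t t.2, mul_inv_cancel_right]

theorem le_HH : T ≤ HH T := fun _ hx => mem_HH.2 fun μ _ => L.le_stb μ hx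

theorem comm_mem {y h : K} (hy : y ∈ N) (hh : h ∈ HH T) : y * h * y⁻¹ * h⁻¹ ∈ T := by
  refine L.faith _ ?_ (mul_mem (HH_normal.conj_mem h hh y) (inv_mem hh))
  have := mul_mem hy (L.normal.conj_mem _ (inv_mem hy) h)
  simpa only [mul_assoc] using this

/-- `g` commutes with `HH T` modulo the kernel of `θ` -/
theorem θ_comm {y h : K} (hy : y * L.g⁻¹ ∈ T) (hh : h ∈ HH T) (hm : y * h * y⁻¹ * h⁻¹ ∈ T) : L.θ ⟨_, hm⟩ = 1 := by
  let β : ↥(N ⊓ stb L.θ) →* ℂˣ := MonoidHom.mk' (fun u => L.θ ⟨u * h * (u : K)⁻¹ * h⁻¹, L.comm_mem u.2.1 hh⟩) fun a b => by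
    rw [mul_comm, ← a.2.2 ⟨b * h * (b : K)⁻¹ * h⁻¹, _⟩, ← map_mul]
    congr 1
    apply Subtype.ext
    simp only [Subgroup.coe_mul, MulAut.conjNormal_apply]
    group
  have h1 : ∀ u : ↥(N ⊓ stb L.θ), (u : K) ∈ T → β u = 1 := fun u hu => by
    have h2 := mem_HH.1 hh L.θ L.θ_cube ⟨u, hu⟩
    show L.θ _ = 1
    rw [← mul_inv_cancel (L.θ ⟨u, hu⟩)]
    nth_rewrite 2 [← h2]
    rw [← map_inv, ← map_mul]
    congr 1
    apply Subtype.ext
    simp only [Subgroup.coe_mul, Subgroup.coe_inv, MulAut.conjNormal_apply]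
    group
  let g' : ↥(N ⊓ stb L.θ) := ⟨L.g, L.g_mem, L.θ_g⟩
  let r' : ↥(N ⊓ stb L.θ) := ⟨L.r, L.r_mem, L.θ_r⟩
  have h2 := h1 (r' * g' * r'⁻¹ * g') L.rg
  have h3 : β g' ^ 3 = 1 := DFunLike.congr_fun L.θ_cube _
  rw [map_mul, map_mul, map_mul, map_inv, mul_comm (β r'), mul_inv_cancel_right] at h2
  rw [pow_succ, pow_two, h2, one_mul] at h3
  have h4 := h1 ⟨y * L.g⁻¹, L.le hy, L.le_stb _ hy⟩ hy
  have h5 : β (⟨y * L.g⁻¹, L.le hy, L.le_stb _ hy⟩ * g') = 1 := by rw [map_mul, h4, h3, one_mul]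
  rw [← h5]
  show _ = L.θ _
  congr 1
  apply Subtype.ext
  show _ = y * L.g⁻¹ * L.g * h * (y * L.g⁻¹ * L.g)⁻¹ * h⁻¹
  rw [inv_mul_cancel_right]

variable [Finite K] (P : Sylow 3 K)

theorem exists_g : ∃ y ∈ (P : Subgroup K), y * L.g⁻¹ ∈ T := by
  obtain ⟨j, m, hm, he⟩ := Nat.exists_eq_pow_mul_and_not_dvd (orderOf_pos L.g).ne' 3 (by norm_num)
  obtain ⟨a, ha⟩ := exists_conj_mem P (x := L.g ^ m) (j := j) (by rw [← pow_mul, mul_comm, ← he, pow_orderOf_eq_one])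
  have h1 : a * L.g ^ m * a⁻¹ ∈ N := L.normal.conj_mem _ (pow_mem L.g_mem m) a
  have h2 : a * L.g ^ m * a⁻¹ ∉ T := fun h => by
    have h3 : L.g ^ m ∈ T := by simpa [mul_assoc] using hT.conj_mem _ h a⁻¹
    apply L.g_not
    have h4 : m % 3 = 1 ∨ m % 3 = 2 := by omega
    rw [← Nat.div_add_mod m 3, pow_add, pow_mul, mul_mem_cancel_left (pow_mem L.g_cube _)] at h3
    rcases h4 with h4 | h4
    · rwa [h4, pow_one] at h3
    · rw [h4] at h3
      have h5 := L.g_cube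
      rwa [pow_succ, mul_mem_cancel_left h3] at h5
  have h3 : (a * L.g ^ m * a⁻¹) ^ 3 ^ j ∈ T := by
    rw [conj_pow, ← pow_mul, mul_comm m, ← he, pow_orderOf_eq_one, mul_one, mul_inv_cancel]
    exact one_mem _
  rcases L.three _ h1 j h3 with h | h | h
  · exact absurd h h2
  · exact ⟨_, ha, h⟩
  · refine ⟨_, inv_mem ha, ?_⟩
    rw [← mul_inv_rev]
    exact inv_mem (hT.mem_comm h)

omit [Finite K] in
theorem three' {y x : K} (hy : y * L.g⁻¹ ∈ T) (hx : x ∈ N) {j : ℕ} (h : x ^ 3 ^ j ∈ T) :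
    x ∈ T ∨ x * y⁻¹ ∈ T ∨ x * y ∈ T := by
  rcases L.three x hx j h with h1 | h1 | h1
  · exact .inl h1
  · refine .inr (.inl ?_)
    have := mul_mem h1 (inv_mem hy)
    simpa [mul_assoc] using this
  · refine .inr (.inr ?_)
    have := mul_mem h1 (hT.mem_comm hy)
    simpa [mul_assoc] using this

/-- a power map from `T` onto `P ⊓ T` -/
theorem exists_m : ∃ m j : ℕ, ¬ 3 ∣ m ∧ (∀ t ∈ T, t ^ m ∈ (P : Subgroup K)) ∧ (∀ μ : ↥T →* ℂˣ, (μ ^ m) ^ 3 ^ j = 1) ∧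
    ∀ x ∈ (P : Subgroup K), x ^ 3 ^ j = 1 := by
  have : Fact (Nat.Prime 3) := ⟨Nat.prime_three⟩
  obtain ⟨j, m, hm, he⟩ := Nat.exists_eq_pow_mul_and_not_dvd (Nat.card_pos (α := K)).ne' 3 (by norm_num)
  let V : Subgroup K :=
    { carrier := {t | t ∈ T ∧ t ^ 3 ^ j = 1}
      one_mem' := ⟨one_mem _, one_pow _⟩
      mul_mem' := fun {a b} ha hb => ⟨mul_mem ha.1 hb.1, by
        rw [(show Commute a b from L.comm a ha.1 b hb.1).mul_pow, ha.2, hb.2, one_mul]⟩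
      inv_mem' := fun {a} ha => ⟨inv_mem ha.1, by rw [inv_pow, ha.2, inv_one]⟩ }
  have hV : V.Normal := ⟨fun a ha x => ⟨hT.conj_mem a ha.1 x, by rw [conj_pow, ha.2, mul_one, mul_inv_cancel]⟩⟩
  have hp : IsPGroup 3 V := fun v => ⟨j, Subtype.ext v.2.2⟩
  refine ⟨m, j, hm, fun t ht => hp.le_sylow_of_normal P ⟨pow_mem ht m, ?_⟩, fun μ => MonoidHom.ext fun t => ?_,
    fun x hx => ?_⟩
  · rw [← pow_mul, mul_comm, ← he, pow_card_eq_one']
  · show (μ t ^ m) ^ 3 ^ j = 1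
    have h1 : t ^ Nat.card K = 1 := Subtype.ext pow_card_eq_one'
    rw [← pow_mul, mul_comm, ← he, ← map_pow, h1, map_one]
  · obtain ⟨i, hi⟩ := P.isPGroup' ⟨x, hx⟩
    have h1 : orderOf x ∣ 3 ^ i := orderOf_dvd_of_pow_eq_one (congrArg Subtype.val hi)
    have h2 : (orderOf x).Coprime m :=
      (((Nat.Prime.coprime_iff_not_dvd Nat.prime_three).2 hm).pow_left i).coprime_dvd_left h1
    exact orderOf_dvd_iff_pow_eq_one.1 (h2.dvd_of_dvd_mul_right (he ▸ orderOf_dvd_natCard x))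

theorem nab_le (h3 : ¬ 3 ∣ N.index) : nab P ≤ 9 := by
  have := L.normal
  have hPN := Res.sylow_le_of_index h3 P
  obtain ⟨y, hyP, hy⟩ := L.exists_g P
  obtain ⟨m, j, hm, h1, h2, h4⟩ := L.exists_m P
  let f : ↥T →* ↥(P : Subgroup K) := MonoidHom.mk' (fun t => ⟨(t : K) ^ m, h1 t t.2⟩) fun a b =>
    Subtype.ext ((show Commute (a : K) b from L.comm a a.2 b b.2).mul_pow m)
  let Φ : (↥(P : Subgroup K) →* ℂˣ) →* (↥T →* ℂˣ) := MonoidHom.mk' (fun l => l.comp f) fun _ _ => rfl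
  have e1 : nab P = Nat.card (↥(P : Subgroup K) →* ℂˣ) := by
    rw [Nat.card_congr Abelianization.lift, CommGroup.card_monoidHom_of_hasEnoughRootsOfUnity]
    rfl
  have hfin : Finite (↥(P : Subgroup K) →* ℂˣ) := Nat.finite_of_card_ne_zero (e1 ▸ (Spor.comm_index_pos _).ne')
  have e2 : Nat.card Φ.range ≤ 3 := by
    have h5 : Φ.range ≤ zpowers L.θ := by
      rintro _ ⟨l, rfl⟩
      have h6 : L.g ∈ stb (Φ l) := by
        have h7 : y ∈ stb (Φ l) := fun t => by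
          have h8 : f (MulAut.conjNormal y t) = ⟨y, hyP⟩ * f t * ⟨y, hyP⟩⁻¹ := Subtype.ext conj_pow
          show l (f _) = l (f t)
          rw [h8, map_mul, map_mul, map_inv, mul_comm (l _), mul_inv_cancel_right]
        simpa using mul_mem (inv_mem (L.le_stb (Φ l) hy)) h7
      have h7 : Φ l ^ 3 ^ j = 1 := MonoidHom.ext fun t => by
        have h8 : f t ^ 3 ^ j = 1 := Subtype.ext (h4 _ (f t).2)
        show l (f t) ^ 3 ^ j = 1
        rw [← map_pow, h8, map_one]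
      rcases L.fixed _ j h7 h6 with h | h | h <;> rw [h]
      exacts [one_mem _, mem_zpowers _, inv_mem (mem_zpowers _)]
    have h6 : orderOf L.θ ∣ 3 := orderOf_dvd_of_pow_eq_one L.θ_cube
    have h7 : Finite (zpowers L.θ) := Nat.finite_of_card_ne_zero (by
      rw [Nat.card_zpowers]
      exact fun h => by simp [h] at h6)
    exact (card_le_of_le h5).trans (by rw [Nat.card_zpowers]; exact Nat.le_of_dvd (by norm_num) h6)
  have hV : ∀ l : Φ.ker, ∀ x : ↥(P : Subgroup K), (x : K) ∈ T → l.1 x = 1 := fun l x hx => by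
    obtain ⟨i, hi⟩ := exists_pow_eq_self_of_coprime (x := (x : K)) (n := m)
      ((((Nat.Prime.coprime_iff_not_dvd Nat.prime_three).2 hm).pow_left j).coprime_dvd_left
        (orderOf_dvd_of_pow_eq_one (h4 x x.2))).symm
    have h5 : x = f ⟨x, hx⟩ ^ i := Subtype.ext hi.symm
    have h6 : l.1 (f ⟨x, hx⟩) = 1 := DFunLike.congr_fun l.2 ⟨x, hx⟩
    rw [h5, map_pow, h6, one_pow]
  have hy3 : y ^ 3 ∈ T := by
    have h5 : ((y : K ⧸ T)) = (L.g : K ⧸ T) := (QuotientGroup.eq_iff_div_mem).2 (by rwa [div_eq_mul_inv])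
    rw [← QuotientGroup.eq_one_iff, QuotientGroup.mk_pow, h5, ← QuotientGroup.mk_pow, QuotientGroup.eq_one_iff]
    exact L.g_cube
  have e3 : Nat.card Φ.ker ≤ 3 := by
    refine le_trans (Nat.card_le_card_of_injective
      (fun l : Φ.ker => (⟨l.1 ⟨y, hyP⟩, ?_⟩ : rootsOfUnity 3 ℂ)) fun l l' h => ?_) ?_
    · rw [mem_rootsOfUnity, ← map_pow]
      exact hV l _ hy3
    · have h5 : l.1 ⟨y, hyP⟩ = l'.1 ⟨y, hyP⟩ := congrArg Subtype.val h
      refine Subtype.ext (MonoidHom.ext fun x => ?_)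
      rcases L.three' hy (hPN x.2) (j := j) (by rw [h4 x x.2]; exact one_mem _) with h6 | h6 | h6
      · rw [hV l x h6, hV l' x h6]
      · have h7 := hV l (x * ⟨y, hyP⟩⁻¹) h6
        have h8 := hV l' (x * ⟨y, hyP⟩⁻¹) h6
        rw [map_mul, map_inv, mul_inv_eq_one] at h7 h8
        rw [h7, h8, h5]
      · have h7 := hV l (x * ⟨y, hyP⟩) h6
        have h8 := hV l' (x * ⟨y, hyP⟩) h6
        rw [map_mul, mul_eq_one_iff_eq_inv] at h7 h8
        rw [h7, h8, h5]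
    · exact card_rootsOfUnity ℂ 3
  rw [e1, ← Φ.ker.card_mul_index, index_ker]
  exact Nat.mul_le_mul e3 e2

theorem sup_cent (h3 : ¬ 3 ∣ N.index) : N ⊔ centralizer ((P : Subgroup K) : Set K) = ⊤ := by
  have := L.normal
  have : Fact (Nat.Prime 3) := ⟨Nat.prime_three⟩
  have hPN := Res.sylow_le_of_index h3 P
  obtain ⟨y, hyP, hy⟩ := L.exists_g P
  obtain ⟨m, j, hm, h1, h2, h4⟩ := L.exists_m P
  have hU : ∀ x, x ∈ (P : Subgroup K) ⊔ T ↔ x ∈ N ∧ x ^ 3 ^ j ∈ T := fun x => by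
    constructor
    · intro hx
      refine ⟨sup_le hPN L.le hx, ?_⟩
      obtain ⟨a, ha, t, ht, rfl⟩ := mem_sup_of_normal_right.1 hx
      rw [← QuotientGroup.eq_one_iff, QuotientGroup.mk_pow, QuotientGroup.mk_mul, (QuotientGroup.eq_one_iff t).2 ht,
        mul_one, ← QuotientGroup.mk_pow, h4 a ha, QuotientGroup.mk_one]
    · rintro ⟨h5, h6⟩
      rcases L.three' hy h5 h6 with h | h | h
      · exact mem_sup_right h
      · simpa using mul_mem (mem_sup_right h : x * y⁻¹ ∈ (P : Subgroup K) ⊔ T) (mem_sup_left hyP)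
      · simpa using mul_mem (mem_sup_right h : x * y ∈ (P : Subgroup K) ⊔ T) (mem_sup_left (inv_mem hyP))
  have hn : ((P : Subgroup K) ⊔ T).Normal := ⟨fun x hx a => (hU _).2
    ⟨L.normal.conj_mem x ((hU x).1 hx).1 a, by rw [conj_pow]; exact hT.conj_mem _ ((hU x).1 hx).2 a⟩⟩
  have hF := Sylow.normalizer_sup_eq_top' P (le_sup_left : (P : Subgroup K) ≤ (P : Subgroup K) ⊔ T)
  have key : ∀ h ∈ HH T, h ∈ normalizer ((P : Subgroup K) : Set K) → h ∈ N ⊔ centralizer ((P : Subgroup K) : Set K) := by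
    intro h hh hN
    have h5 : ∀ v ∈ (P : Subgroup K), v ∈ T → h ^ 3 ^ j * v = v * h ^ 3 ^ j := fun v hv hvT => by
      let _ : CommGroup ↥T := { (inferInstance : Group ↥T) with mul_comm := fun a b => Subtype.ext (L.comm a a.2 b b.2) }
      have h6 : MulAut.conjNormal (h ^ 3 ^ j) (⟨v, hvT⟩ : ↥T) = ⟨v, hvT⟩ := by
        refine (CommGroup.forall_apply_eq_apply_iff (M := ℂ) _).1 fun μ => ?_
        have h7 : μ (MulAut.conjNormal (h ^ 3 ^ j) ⟨v, hvT⟩) ^ m = μ ⟨v, hvT⟩ ^ m := pow_mem_stb hh j _ (h2 μ) _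
        have h8 : (⟨v, hvT⟩ : ↥T) ^ 3 ^ j = 1 := Subtype.ext (h4 v hv)
        have h9 : μ (MulAut.conjNormal (h ^ 3 ^ j) ⟨v, hvT⟩) ^ 3 ^ j = μ ⟨v, hvT⟩ ^ 3 ^ j := by
          rw [← map_pow, ← map_pow, ← map_pow, h8, map_one]
        rw [← mul_inv_eq_one] at h7 h9 ⊢
        rw [← inv_pow, ← mul_pow] at h7 h9
        exact (pow_eq_one_iff_of_coprime (((Nat.Prime.coprime_iff_not_dvd Nat.prime_three).2 hm).pow_left j)).1 ⟨h9, h7⟩
      exact mul_inv_eq_iff_eq_mul.1 (congrArg Subtype.val h6)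
    have h6 : (h ^ 3 ^ j) ^ 3 ^ j ∈ centralizer ((P : Subgroup K) : Set K) := by
      have h7 : h ^ 3 ^ j ∈ HH T := pow_mem hh _
      have h8 : h ^ 3 ^ j ∈ normalizer ((P : Subgroup K) : Set K) := pow_mem hN _
      generalize h ^ 3 ^ j = u at h5 h7 h8
      intro x hx
      have h9 : x * u⁻¹ * x⁻¹ * u ∈ T := by simpa using L.comm_mem (hPN hx) (inv_mem h7)
      have h10 : x * u⁻¹ * x⁻¹ * u ∈ (P : Subgroup K) := by
        have := mul_mem hx ((mem_normalizer_iff.1 (inv_mem h8) _).1 (inv_mem hx))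
        simpa [mul_assoc] using this
      have h11 : Commute u (x * u⁻¹ * x⁻¹ * u) := h5 _ h10 h9
      have h12 := h4 _ h10
      have h13 : x * u⁻¹ * x⁻¹ = (x * u⁻¹ * x⁻¹ * u) * u⁻¹ := by group
      have h14 : (x * u⁻¹ * x⁻¹) ^ 3 ^ j = u⁻¹ ^ 3 ^ j := by rw [h13, h11.symm.inv_right.mul_pow, h12, one_mul]
      rw [conj_pow, inv_pow, mul_inv_eq_iff_eq_mul] at h14
      exact (Commute.inv_right_iff.1 (show Commute x (u ^ 3 ^ j)⁻¹ from h14)).eq
    rw [← pow_mul, ← pow_add] at h6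
    have h7 : h ^ N.index ∈ N := pow_index_mem N h
    have hc : (3 ^ (j + j)).Coprime N.index := ((Nat.Prime.coprime_iff_not_dvd Nat.prime_three).2 h3).pow_left _
    have h9 : h = h ^ ((3 ^ (j + j) : ℕ) * Nat.gcdA (3 ^ (j + j)) N.index + N.index * Nat.gcdB (3 ^ (j + j)) N.index : ℤ) := by
      rw [← Nat.gcd_eq_gcd_ab, hc.gcd_eq_one, Nat.cast_one, zpow_one]
    rw [h9, zpow_add, zpow_mul, zpow_mul, zpow_natCast, zpow_natCast]
    exact mul_mem (zpow_mem (mem_sup_right h6) _) (zpow_mem (mem_sup_left h7) _)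
  refine eq_top_iff.2 fun x _ => ?_
  obtain ⟨n, hn1, hn2⟩ := L.act x
  rw [← mul_mem_cancel_left (inv_mem (mem_sup_left hn1))]
  generalize n⁻¹ * x = h at hn2
  obtain ⟨a, ha, u, hu, rfl⟩ := mem_sup_of_normal_right.1 (hF ▸ mem_top h)
  obtain ⟨b, hb, t, ht, rfl⟩ := mem_sup_of_normal_right.1 hu
  rw [← mul_assoc] at hn2 ⊢
  exact mul_mem (key _ ((mul_mem_cancel_right (L.le_HH ht)).1 hn2) (mul_mem ha (le_normalizer hb)))
    (mem_sup_left (L.le ht))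

theorem le_nab (h3 : 3 ∣ N.index) : 27 ≤ nab P := by
  have := L.normal
  have : Fact (Nat.Prime 3) := ⟨Nat.prime_three⟩
  obtain ⟨y, hyP, hy⟩ := L.exists_g P
  obtain ⟨m, j, hm, h1, h2, h4⟩ := L.exists_m P
  have hyN : y ∈ N := by simpa using mul_mem (L.le hy) L.g_mem
  have hyH : y ∉ HH T := fun h => L.g_not (by simpa using mul_mem (inv_mem hy) (L.faith y hyN h))
  have dec : ∀ x ∈ (P : Subgroup K), x ∈ HH T ∨ x * y⁻¹ ∈ HH T ∨ x * y ∈ HH T := fun x hx => by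
    obtain ⟨n, hn1, hn2⟩ := L.act x
    have h5 : (n : K ⧸ HH T) = x := QuotientGroup.eq.2 hn2
    have h6 : n ^ 3 ^ j ∈ HH T := by
      rw [← QuotientGroup.eq_one_iff, QuotientGroup.mk_pow, h5, ← QuotientGroup.mk_pow, h4 x hx, QuotientGroup.mk_one]
    have h7 : ∀ z, n * z ∈ T → x * z ∈ HH T := fun z hz => by
      rw [← QuotientGroup.eq_one_iff, QuotientGroup.mk_mul, ← h5, ← QuotientGroup.mk_mul, QuotientGroup.eq_one_iff]
      exact L.le_HH hz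
    rcases L.three' hy hn1 (L.faith _ (pow_mem hn1 _) h6) with h | h | h
    · exact .inl (by simpa using h7 1 (by simpa using h))
    · exact .inr (.inl (h7 _ h))
    · exact .inr (.inr (h7 _ h))
  let K0 : Subgroup K := L.θ.ker.map T.subtype
  have mK : ∀ {x : K}, x ∈ K0 ↔ ∃ hx : x ∈ T, L.θ ⟨x, hx⟩ = 1 :=
    ⟨by rintro ⟨t, ht, rfl⟩; exact ⟨t.2, ht⟩, fun ⟨hx, h⟩ => ⟨⟨_, hx⟩, h, rfl⟩⟩
  let P0 : Subgroup K := HH T ⊓ P
  have hP0 : IsPGroup 3 P0 := P.isPGroup'.to_le inf_le_right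
  have hn0 : (K0.subgroupOf P0).Normal := ⟨fun x hx a => by
    obtain ⟨h5, h6⟩ := mK.1 (mem_subgroupOf.1 hx)
    exact mem_subgroupOf.2 (mK.2 ⟨hT.conj_mem _ h5 a, (mem_HH.1 a.2.1 L.θ L.θ_cube ⟨x, h5⟩).trans h6⟩)⟩
  have h9 : 9 ∣ Nat.card (↥P0 ⧸ K0.subgroupOf P0) := by
    show 9 ∣ K0.relIndex P0
    have e1 : T ⊓ P ≤ P0 := inf_le_inf_right _ L.le_HH
    have e2 : K0 ≤ T := map_subtype_le _
    rw [← inf_relIndex_right, ← relIndex_mul_relIndex (K0 ⊓ P0) (T ⊓ P) P0 (inf_le_inf e2 inf_le_right) e1]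
    refine mul_dvd_mul (three_le_relIndex (hP0.to_le e1) fun h => L.θ_ne (MonoidHom.ext fun t => ?_))
      (three_le_relIndex hP0 fun h => ?_)
    · obtain ⟨h5, h6⟩ := mK.1 (h ⟨pow_mem t.2 m, h1 t t.2⟩).1
      have h7 : L.θ t ^ m = 1 := by rw [← map_pow]; exact h6
      exact (pow_eq_one_iff_of_coprime ((Nat.Prime.coprime_iff_not_dvd Nat.prime_three).2 hm)).1
        ⟨DFunLike.congr_fun L.θ_cube t, h7⟩
    · refine P.not_dvd_index (h3.trans (index_dvd_of_le fun x hx => ?_))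
      rcases dec x hx with h5 | h5 | h5
      · exact L.le (h ⟨h5, hx⟩).1
      · simpa using mul_mem (L.le (h ⟨h5, (P : Subgroup K).mul_mem hx (inv_mem hyP)⟩).1) hyN
      · simpa using mul_mem (L.le (h ⟨h5, mul_mem hx hyP⟩).1) (inv_mem hyN)
  have h10 := Spor.nine_le (hP0.to_quotient _) h9
  rw [← index_comap_of_surjective _ (QuotientGroup.mk'_surjective (K0.subgroupOf P0))] at h10
  set C := (commutator (↥P0 ⧸ K0.subgroupOf P0)).comap (QuotientGroup.mk' (K0.subgroupOf P0)) with hC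
  let R : Subgroup K := C.map P0.subtype
  have r0 : R ≤ P0 := map_subtype_le _
  have r1 : ∀ x ∈ P0, x ∈ K0 → x ∈ R := fun x hx h => ⟨⟨x, hx⟩, by
    show QuotientGroup.mk' _ _ ∈ commutator _
    rw [QuotientGroup.mk'_apply, (QuotientGroup.eq_one_iff _).2 (mem_subgroupOf.2 h)]
    exact one_mem _, rfl⟩
  have r2 : ∀ a ∈ P0, ∀ b ∈ P0, a * b * a⁻¹ * b⁻¹ ∈ R := fun a ha b hb => ⟨⁅(⟨a, ha⟩ : ↥P0), ⟨b, hb⟩⁆, by
    show QuotientGroup.mk' _ _ ∈ commutator _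
    rw [map_commutatorElement]
    exact commutator_mem_commutator (mem_top _) (mem_top _), rfl⟩
  have r3 : ∀ b ∈ P0, y * b * y⁻¹ * b⁻¹ ∈ R := fun b hb => by
    have h5 := L.comm_mem hyN hb.1
    have hb2 : b ∈ (P : Subgroup K) := hb.2
    exact r1 _ (mem_inf.2 ⟨L.le_HH h5, mul_mem (mul_mem (mul_mem hyP hb2) (inv_mem hyP)) (inv_mem hb2)⟩)
      (mK.2 ⟨h5, L.θ_comm hy hb.1 h5⟩)
  have cl : closure {x : ↥(P : Subgroup K) | (x : K) ∈ P0 ∨ (x : K) = y} = ⊤ := by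
    refine eq_top_iff.2 fun x _ => ?_
    have h5 : (⟨y, hyP⟩ : ↥(P : Subgroup K)) ∈ closure {x : ↥(P : Subgroup K) | (x : K) ∈ P0 ∨ (x : K) = y} :=
      Subgroup.subset_closure (Or.inr rfl)
    rcases dec x x.2 with h | h | h
    · exact Subgroup.subset_closure (Or.inl (mem_inf.2 ⟨h, x.2⟩))
    · exact (mul_mem_cancel_right (inv_mem h5)).1
        (Subgroup.subset_closure (Or.inl (mem_inf.2 ⟨h, mul_mem x.2 (inv_mem hyP)⟩)))
    · exact (mul_mem_cancel_right h5).1 (Subgroup.subset_closure (Or.inl (mem_inf.2 ⟨h, mul_mem x.2 hyP⟩)))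
  have hnR : (R.subgroupOf P).Normal := by
    refine normalizer_eq_top_iff.1 (eq_top_iff.2 (cl ▸ (closure_le _).2 fun a ha => ?_))
    refine mem_normalizer_fintype (S := ((R.subgroupOf P : Subgroup ↥(P : Subgroup K)) : Set ↥(P : Subgroup K)))
      fun x hx => ?_
    have hx' : (x : K) ∈ R := hx
    have h5 : (a : K) * x * (a : K)⁻¹ * (x : K)⁻¹ ∈ R := by
      rcases ha with ha | ha
      · exact r2 _ ha _ (r0 hx')
      · rw [ha]
        exact r3 _ (r0 hx')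
    exact (mul_mem_cancel_right (inv_mem hx')).1 h5
  have h11 : commutator ↥(P : Subgroup K) ≤ R.subgroupOf P := Spor.comm_le_of_gen _ cl fun a ha b hb => by
    show (a : K) * b * (a : K)⁻¹ * (b : K)⁻¹ ∈ R
    rcases ha with ha | ha <;> rcases hb with hb | hb
    · exact r2 _ ha _ hb
    · rw [hb]
      simpa [mul_assoc] using inv_mem (r3 _ ha)
    · rw [ha]
      exact r3 _ hb
    · rw [ha, hb]
      simp
  have h12 : R.relIndex P0 = C.index := by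
    rw [relIndex, subgroupOf, comap_map_eq_self_of_injective P0.subtype_injective]
  have h13 : 3 ≤ P0.relIndex P :=
    Nat.le_of_dvd (Nat.pos_of_ne_zero index_ne_zero_of_finite) (three_le_relIndex P.isPGroup' fun h => hyH (h hyP).1)
  refine le_trans ?_ (Nat.le_of_dvd (Spor.comm_index_pos _) (index_dvd_of_le h11))
  show 27 ≤ R.relIndex P
  rw [← relIndex_mul_relIndex R P0 P r0 inf_le_right, h12]
  exact Nat.mul_le_mul h10 h13

end LG

end Cfsg.Agent.KZ.G2
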