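import Cfsg.Agent.KZ.G2.Chr
import Cfsg.Agent.KZ.G2.Grp
import Cfsg.Agent.KZ.Lie.Desc
import Cfsg.Agent.KZ.Lie.Mc
import Cfsg.Agent.KZ.Tool.Res2
import Cfsg.Agent.KZ.Red.Nab

/-!
# KZ, `G₂(q)` and `³D₄(q)`: the rows from the combinatorial input (helper50)

`exists_lg` : the structure `LG` from `Loc2` and `Cb`; `Gd S` : the data for a group `S`; `row_of`.
-/

set_option autoImplicit false
set_option linter.unusedSectionVars false

namespace Cfsg.Agent.KZ.G2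

open Cfsg Cfsg.Agent.DL Cfsg.Agent.DL.PP Cfsg.Agent.DL.Uni Cfsg.Agent.DL.Asm Cfsg.Agent.KZ.Lie Matrix

section

variable {p : ℕ} [Fact p.Prime] {k : Type} [Field k] [CharP k p] {Y : Type} [Group Y] {N : Type} [Fintype N]
  [DecidableEq N] {ρ : Y →* GL N k} {F : MulAut Y} {G : Subgroup Y} [IsAlgClosed k] {D : Datum p ρ F G}
  {f : Fr D} [Fintype ↥(GF F G)] {Adm : Matrix D.R D.R ℤ → Prop} {S : Type} [Group S] {s : Sit D Adm S} {w₀ : D.W}

variable (D w₀) in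
/-- the fixed labels -/
def FxS : Subgroup (Lbl D) where
  carrier := {c | Fx D w₀ c}
  one_mem' := fx_one w₀
  mul_mem' := fx_mul
  inv_mem' := fx_inv

theorem zw_of (hπ : Function.Injective s.π) (w : D.W) (c : Lbl D) : s.Zw f w c := fun z hz g => by
  obtain rfl : z = 1 := hπ (hz.trans (map_one _).symm)
  exact congrArg _ (one_mul g)

theorem h1_top (hH : s.H0 = GF F G) : s.H1 = ⊤ := by rw [Sit.H1, hH, Subgroup.subgroupOf_self]

theorem Cb.admC (C : Cb D Adm w₀) : AdmC D Adm w₀ := fun _ A _ h => by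
  obtain ⟨n, -, rfl⟩ := C.adm A h
  exact ⟨1, by rw [D.Wm_one, one_mul, mul_smul_comm, smul_mul_assoc, mul_one, one_mul]⟩

theorem Cb.three' (C : Cb D Adm w₀) {x : D.W} (hx : x ∈ CW D w₀) {j : ℕ} (h : x ^ 3 ^ j = 1) :
    x = 1 ∨ x * C.σ⁻¹ = 1 ∨ x * C.σ = 1 := by
  obtain ⟨m, hm⟩ : Odd (3 ^ j) := Odd.pow (by decide)
  have h1 : x = (x * x) ^ (m + 1) := by
    rw [← pow_two, ← pow_mul, show 2 * (m + 1) = 3 ^ j + 1 by omega, pow_succ, h, one_mul]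
  obtain ⟨i, hi⟩ : ∃ i : ℕ, x = C.σ ^ i := by
    rcases C.three x hx with e | e | e <;> rw [e] at h1
    · exact ⟨0, by rw [h1, one_pow, pow_zero]⟩
    · exact ⟨_, h1⟩
    · exact ⟨_, by rw [h1, ← pow_two, ← pow_mul]⟩
  rw [hi, pow_eq_pow_mod i C.σ_cube]
  have h2 := Nat.mod_lt i (show 0 < 3 by norm_num)
  generalize i % 3 = a at h2
  interval_cases a
  · exact .inl (pow_zero _)
  · exact .inr (.inl (by rw [pow_one, mul_inv_cancel]))
  · exact .inr (.inr (by rw [← pow_succ, C.σ_cube]))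

variable {A : Type} [Group A] {N₀ : Subgroup A} {P : Sylow 3 A} (L : Loc2 f s w₀ A N₀ P)

theorem tb_le : L.Tb ≤ L.Ah := L.Tb_le.trans (L.N1_eq.le.trans inf_le_left)

/-- the torus as a subgroup of its normaliser -/
abbrev TT : Subgroup ↥L.Ah := L.Tb.subgroupOf L.Ah

instance tt_normal : (TT L).Normal := ⟨fun t ht x => L.Tb_norm x x.2 t ht⟩

theorem mem_N1 {x : ↥L.Ah} (hx : x ∈ N₀.subgroupOf L.Ah) : (x : A) ∈ L.N1 := L.N1_eq.ge ⟨x.2, hx⟩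

/-- the map to the Weyl group -/
def om : ↥(N₀.subgroupOf L.Ah) →* D.W := L.ω.comp (MonoidHom.mk' (fun x => ⟨x.1, mem_N1 L x.2⟩) fun _ _ => rfl)

theorem om_ker (x : ↥(N₀.subgroupOf L.Ah)) : om L x = 1 ↔ x.1 ∈ TT L := L.ω_ker ⟨x.1, mem_N1 L x.2⟩

theorem om_mem (x : ↥(N₀.subgroupOf L.Ah)) : om L x ∈ CW D w₀ := L.ω_range.le ⟨_, rfl⟩

theorem om_B (x : ↥(N₀.subgroupOf L.Ah)) : L.B x.1 = D.Wm (om L x) := L.B_N1 ⟨x.1, mem_N1 L x.2⟩

theorem om_surj {u : D.W} (hu : u ∈ CW D w₀) : ∃ x, om L x = u := by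
  obtain ⟨n, rfl⟩ := L.ω_range.ge hu
  have h1 := L.N1_eq.le n.2
  exact ⟨⟨⟨n, h1.1⟩, h1.2⟩, rfl⟩

variable (hπ : Function.Injective s.π)

/-- the characters of the torus -/
def Th : ↥(FxS D w₀) →* ↥(TT L) →* ℂˣ :=
  MonoidHom.mk' (fun c => MonoidHom.mk' (fun t => L.Θ c ⟨t.1, t.2⟩) fun a b =>
      L.Θ_mul c c.2 (zw_of hπ _ _) ⟨a.1, a.2⟩ ⟨b.1, b.2⟩)
    fun c c' => MonoidHom.ext fun _ => L.Θ_mul' c c' c.2 (zw_of hπ _ _) c'.2 (zw_of hπ _ _) _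

theorem Th_surj : Function.Surjective (Th L hπ) := fun μ => by
  obtain ⟨c, h1, -, h2⟩ := L.Θ_surj (μ.comp (Subgroup.subgroupOfEquivOfLe (tb_le L)).symm.toMonoidHom)
  exact ⟨⟨c, h1⟩, MonoidHom.ext fun t => h2 _⟩

theorem Th_inj (hA : Api f) (hH : s.H0 = GF F G) : Function.Injective (Th L hπ) := by
  refine (injective_iff_map_eq_one _).2 fun c hc => Subtype.ext ?_
  have h1 := (L.Θ_one c c.2 (zw_of hπ _ _)).1 fun a =>
    DFunLike.congr_fun hc ((Subgroup.subgroupOfEquivOfLe (tb_le L)).symm a)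
  have h2 := (h1.props hA).2.2.1
  rwa [h1_top hH, Subgroup.index_top, pow_one] at h2

theorem Th_cj (x : ↥L.Ah) (c : ↥(FxS D w₀)) :
    ∃ h : mon (L.B x)ᵀ c.1 ∈ FxS D w₀, cjm (Th L hπ c) x = Th L hπ ⟨_, h⟩ := by
  obtain ⟨h1, -, h2⟩ := L.B_Θ x x.2 _ c (tr_iff.2 rfl) c.2 (zw_of hπ _ _)
  exact ⟨h1, MonoidHom.ext fun t => h2 ⟨t.1, t.2⟩ _ rfl⟩

theorem mem_stb_Th (hA : Api f) (hH : s.H0 = GF F G) {x : ↥L.Ah} {c : ↥(FxS D w₀)} :
    x ∈ stb (Th L hπ c) ↔ c.1 = mon (L.B x)ᵀ c.1 := by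
  obtain ⟨h1, h2⟩ := Th_cj L hπ x c
  have h3 : x ∈ stb (Th L hπ c) ↔ cjm (Th L hπ c) x = Th L hπ c := ⟨fun h => MonoidHom.ext h, DFunLike.congr_fun⟩
  rw [h3, h2, (Th_inj L hπ hA hH).eq_iff, Subtype.ext_iff]
  exact eq_comm

include hπ in
/-- the bridge -/
theorem exists_lg [N₀.Normal] (hA : Api f) (hH : s.H0 = GF F G) (C : Cb D Adm w₀) :
    Nonempty (LG (N₀.subgroupOf L.Ah) (TT L)) := by
  have st : ∀ (n : ↥(N₀.subgroupOf L.Ah)) (c : ↥(FxS D w₀)), n.1 ∈ stb (Th L hπ c) ↔ Rel D (om L n) c.1 c.1 :=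
    fun n c => by rw [mem_stb_Th L hπ hA hH, rel_iff, om_B]
  have cube : ∀ (c : ↥(FxS D w₀)) (n : ℕ), Th L hπ c ^ n = 1 ↔ c.1 ^ n = 1 := fun c n => by
    rw [show Th L hπ c ^ n = Th L hπ (c ^ n) from (map_pow (Th L hπ) c n).symm, map_eq_one_iff _ (Th_inj L hπ hA hH),
      Subtype.ext_iff]
    rfl
  obtain ⟨g, hσ⟩ := om_surj L C.σ_mem
  obtain ⟨r, hr⟩ := om_surj L C.r_mem
  obtain ⟨s', hs⟩ : ∃ s' : ↥(FxS D w₀), s'.1 = C.s := ⟨⟨C.s, C.s_fx⟩, rfl⟩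
  refine ⟨{
    normal := inferInstance
    le := fun t ht => (L.N1_eq.le (L.Tb_le ht)).2
    comm := fun a ha b hb => Subtype.ext (L.Tb_comm a ha b hb)
    act := fun x => ?_
    faith := fun x hx h => (om_ker L ⟨x, hx⟩).1 (C.faith _ (om_mem L _) fun c hc h3 =>
      (st ⟨x, hx⟩ ⟨c, hc⟩).1 (mem_HH.1 h _ ((cube _ _).2 h3)))
    g := g
    r := r
    g_mem := g.2
    r_mem := r.2
    g_not := fun h => C.σ_ne (hσ.symm.trans ((om_ker L g).2 h))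
    g_cube := (om_ker L (g ^ 3)).1 (by rw [map_pow, hσ, C.σ_cube])
    rg := (om_ker L (r * g * r⁻¹ * g)).1 (by rw [map_mul, map_mul, map_mul, map_inv, hσ, hr, C.rσ])
    three := fun x hx j h => ?_
    θ := Th L hπ s'
    θ_cube := (cube _ _).2 (by rw [hs, C.s_cube])
    θ_ne := fun h => C.s_ne (hs.symm.trans (congrArg Subtype.val ((map_eq_one_iff _ (Th_inj L hπ hA hH)).1 h)))
    θ_g := (st g _).2 (by rw [hσ, hs]; exact C.s_σ)
    θ_r := (st r _).2 (by rw [hr, hs]; exact C.s_r)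
    fixed := fun μ j h1 h2 => ?_ }⟩
  · obtain ⟨v, A', h1, h2⟩ := L.B_adm x x.2
    obtain ⟨n, hn, rfl⟩ := C.adm A' h1
    have h3 := L.B_comm x x.2
    rw [mul_smul_comm, mul_one] at h2
    rw [h2, smul_mul_assoc, mul_smul_comm] at h3
    have hv : v ∈ CW D w₀ := tc_iff.2 (smul_right_injective _ (show n ≠ 0 by omega) h3).symm
    obtain ⟨u, hu, h4⟩ : ∃ u ∈ CW D w₀, ∀ c : Lbl D, c ^ 3 = 1 → mon (D.Wm u)ᵀ c = mon (L.B x)ᵀ c := by
      have h5 : ∀ c : Lbl D, c ^ 3 = 1 → mon (D.Wm v)ᵀ c ^ 3 = 1 := fun c hc => by rw [← map_pow, hc, map_one]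
      by_cases h6 : 3 ∣ n - 1
      · refine ⟨v, hv, fun c hc => ?_⟩
        rw [h2, transpose_smul, DL.mon_zsmul]
        rcases zpow_of_cube (h5 c hc) hn with ⟨-, e⟩ | ⟨h7, -⟩
        · exact e.symm
        · omega
      · refine ⟨v * C.z, mul_mem hv (C.z_tc w₀), fun c hc => ?_⟩
        rw [h2, transpose_smul, DL.mon_zsmul, D.Wm_mul, C.z_eq, mul_neg, mul_one, transpose_neg, DL.mon_neg]
        rcases zpow_of_cube (h5 c hc) hn with ⟨h7, -⟩ | ⟨-, e⟩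
        · omega
        · exact e.symm
    obtain ⟨⟨m, hm⟩, h5⟩ := om_surj L hu
    refine ⟨m, hm, mem_HH.2 fun μ hμ t => ?_⟩
    obtain ⟨c, hc⟩ := Th_surj L hπ (cjm μ m⁻¹)
    obtain ⟨h6, h7⟩ := Th_cj L hπ x c
    obtain ⟨h8, h9⟩ := Th_cj L hπ m c
    have h10 : cjm (Th L hπ c) x = cjm (Th L hπ c) m := by
      rw [h7, h9]
      congr 2
      rw [← h4 c ((cube _ _).1 (by rw [hc]; exact cjm_pow hμ _)), ← h5, ← om_B]
    have h11 := DFunLike.congr_fun h10 t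
    rw [hc, cjm_apply, cjm_apply, cjm_apply, cjm_apply, ← MulAut.mul_apply, ← MulAut.mul_apply, ← map_mul, ← map_mul,
      inv_mul_cancel, map_one, MulAut.one_apply] at h11
    exact h11
  · obtain ⟨x, rfl⟩ : ∃ y : ↥(N₀.subgroupOf L.Ah), y.1 = x := ⟨⟨x, hx⟩, rfl⟩
    have h1 := (om_ker L (x ^ 3 ^ j)).2 h
    rw [map_pow] at h1
    rcases C.three' (om_mem L _) h1 with e | e | e
    · exact .inl ((om_ker L _).1 e)
    · exact .inr (.inl ((om_ker L (x * g⁻¹)).1 (by rw [map_mul, map_inv, hσ, e])))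
    · exact .inr (.inr ((om_ker L (x * g)).1 (by rw [map_mul, hσ, e])))
  · obtain ⟨c, rfl⟩ := Th_surj L hπ μ
    rcases C.fixed c c.2 ⟨j, (cube _ _).1 h1⟩ (hσ ▸ (st g c).1 h2) with e | e | e
    · exact .inl (by rw [show c = 1 from Subtype.ext e, map_one])
    · exact .inr (.inl (congrArg _ (Subtype.ext (e.trans hs.symm))))
    · exact .inr (.inr ((congrArg _ (Subtype.ext (by rw [e, ← hs]; rfl))).trans (map_inv (Th L hπ) s')))

include L hπ in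
/-- the abelianization of the Sylow subgroup -/
theorem nab_facts [Finite A] [N₀.Normal] (hA : Api f) (hH : s.H0 = GF F G) (C : Cb D Adm w₀) :
    (¬ 3 ∣ N₀.index → nab P ≤ 9 ∧ N₀ ⊔ Subgroup.centralizer ((P : Subgroup A) : Set A) = ⊤) ∧
      (3 ∣ N₀.index → 27 ≤ nab P) := by
  obtain ⟨Q⟩ := exists_lg L hπ hA hH C
  have h1 : (N₀.subgroupOf L.Ah).index = N₀.index := by
    rw [← N₀.relIndex_top_right, ← L.sup, Subgroup.relIndex_sup_left]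
    rfl
  rw [← h1, ← Red.nab_subtype P L.P_le]
  refine ⟨fun h => ⟨Q.nab_le _ h, ?_⟩, Q.le_nab _⟩
  have h2 := congrArg (Subgroup.map L.Ah.subtype) (Q.sup_cent (P.subtype L.P_le) h)
  rw [Subgroup.map_sup, ← MonoidHom.range_eq_map, Subgroup.range_subtype] at h2
  rw [eq_top_iff, ← L.sup]
  refine sup_le le_sup_left (h2.ge.trans (sup_le_sup ?_ ?_))
  · rintro _ ⟨x, hx, rfl⟩
    exact hx
  · rintro _ ⟨x, hx, rfl⟩ y hy
    exact congrArg Subtype.val (hx ⟨y, L.P_le hy⟩ hy)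

omit L

include hπ in
theorem mem_facts (hA : Api f) (hC : Mc f w₀) (hH : s.H0 = GF F G) (C : Cb D Adm w₀) {M : Ideal AlgInt}
    (hM : IsPModular 3 M) : k0 M S ≤ 9 ∧ ∃ e : Fin 3 → IrrCharacter S, Function.Injective e ∧
      ∀ i, Mem M (e i) ∧ Nontriv (e i) ∧ ∀ σ, Fixes σ (e i) := by
  have := s.finite
  obtain ⟨ε, hε⟩ : ∃ ε : S ≃* ↥(GF F G), ∀ h : ↥s.H0, ε (s.π h) = ⟨h, s.le h.2⟩ :=
    ⟨(MulEquiv.ofBijective s.π ⟨hπ, s.surj⟩).symm.trans (MulEquiv.subgroupCongr hH), fun h =>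
      congrArg (MulEquiv.subgroupCongr hH) ((MulEquiv.ofBijective s.π ⟨hπ, s.surj⟩).symm_apply_apply h)⟩
  obtain ⟨e, he, h⟩ := C.exists_three hA hC hM
  refine ⟨(Res.k0_congr hM ε).trans_le (C.k0_le hA hC hM), fun i => Res.tr ε (e i), (Res.tr ε).injective.comp he,
    fun i => ⟨(Res.mem_tr hM ε).2 (h i).1, Res.nontriv_tr ε (h i).2.1, Sit.Dn.fixes (s := s) (fun x => ?_) (h i).2.2⟩⟩
  rw [Res.tr_apply, hε]

end

/-- the box `exists_loc` -/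
def BoxL : Prop :=
  ∀ {p : ℕ} [Fact p.Prime] {k : Type} [Field k] [CharP k p] {Y : Type} [Group Y] {N : Type} [Fintype N]
    [DecidableEq N] {ρ : Y →* GL N k} {F : MulAut Y} {G : Subgroup Y} [IsAlgClosed k] {D : Datum p ρ F G} (f : Fr D)
    [Fintype ↥(GF F G)] {Adm : Matrix D.R D.R ℤ → Prop} {S : Type} [Group S] (s : Sit D Adm S), p ≠ 3 → Api f →
    ∀ {w₀ : D.W}, Full D w₀ → AdmC D Adm w₀ → RegC D w₀ → ¬ 3 ∣ s.H1.index →
    ∀ (A : Type) [Group A] [Finite A] (N₀ : Subgroup A) [N₀.Normal], (↥N₀ ≃* S) → ∀ P : Sylow 3 A,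
      Nonempty (Loc2 f s w₀ A N₀ P)

/-- the data for a group -/
def Gd (S : Type) [Group S] : Prop :=
  ∃ (p : ℕ) (_ : Fact p.Prime) (k : Type) (_ : Field k) (_ : CharP k p) (Y : Type) (_ : Group Y) (N : Type)
    (_ : Fintype N) (_ : DecidableEq N) (ρ : Y →* GL N k) (F : MulAut Y) (G : Subgroup Y) (_ : IsAlgClosed k)
    (D : Datum p ρ F G) (Adm : Matrix D.R D.R ℤ → Prop) (s : Sit D Adm S) (w₀ : D.W),
    p ≠ 3 ∧ s.H0 = GF F G ∧ Function.Injective s.π ∧ Nonempty (Cb D Adm w₀)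

theorem Gd.mem (hA : BoxApi) {S : Type} [Group S] (h : Gd S) {M : Ideal AlgInt} (hM : IsPModular 3 M) :
    k0 M S ≤ 9 ∧ ∃ e : Fin 3 → IrrCharacter S, Function.Injective e ∧
      ∀ i, Mem M (e i) ∧ Nontriv (e i) ∧ ∀ σ, Fixes σ (e i) := by
  obtain ⟨p, _, k, _, _, Y, _, N, _, _, ρ, F, G, _, D, Adm, s, w₀, hp, hH, hπ, ⟨C⟩⟩ := h
  have := finite_GF D
  have := Fintype.ofFinite ↥(GF F G)
  obtain ⟨f⟩ := nonempty_fr D
  exact mem_facts hπ (hA f s.qs) (mc_of_syl f hp C.syl C.reg) hH C hM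

theorem Gd.nab (hA : BoxApi) (hL : BoxL) {A : Type} [Group A] [Finite A] {N₀ : Subgroup A} [N₀.Normal] (h : Gd ↥N₀)
    (P : Sylow 3 A) : (¬ 3 ∣ N₀.index → nab P ≤ 9 ∧ N₀ ⊔ Subgroup.centralizer ((P : Subgroup A) : Set A) = ⊤) ∧
      (3 ∣ N₀.index → 27 ≤ nab P) := by
  obtain ⟨p, _, k, _, _, Y, _, N, _, _, ρ, F, G, _, D, Adm, s, w₀, hp, hH, hπ, ⟨C⟩⟩ := h
  have := finite_GF D
  have := Fintype.ofFinite ↥(GF F G)
  obtain ⟨f⟩ := nonempty_fr D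
  obtain ⟨L⟩ := hL f s hp (hA f s.qs) (mc_of_syl f hp C.syl C.reg).card C.admC C.reg
    (by rw [h1_top hH, Subgroup.index_top]; decide) A N₀ (MulEquiv.refl _) P
  exact nab_facts L hπ (hA f s.qs) hH C

/-- the rows -/
theorem row_of (hA : BoxApi) (hL : BoxL) : Row Gd := by
  refine Row.of_one Tool.toolOne (fun M hM A _ _ N h1 h2 P h3 => ?_) (fun M hM A _ _ N h1 h2 h3 P h4 => ?_)
    fun M hM S _ _ _ _ _ h => ?_
  · have := h1.normal
    obtain ⟨h4, h5⟩ := h2.nab hA hL P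
    by_cases h6 : 3 ∣ N.index
    · have := h5 h6
      omega
    · rw [Res.same hM h6 P (h4 h6).2]
      exact (h2.mem hA hM).1
  · have := h1.normal
    rcases h3 with h3 | h3
    · have := ((h2.nab hA hL P).1 h3).1
      omega
    · obtain ⟨-, e, he, h⟩ := h2.mem hA hM
      refine le_trans (by norm_num) (Res.twelve_le hM h1.cent h3 (Res.p4_of_fam (ι := Option (Fin 3))
        (fun i => i.elim (Tool.triv _) e) (by simp) (fun i => ?_) (fun i j hij => ?_) fun σ _ _ i => ?_))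
      · cases i
        · exact Tool.mem_triv hM
        · exact (h _).1
      · cases i <;> cases j
        · rfl
        · exact absurd hij.symm (Tool.nontriv_iff.1 (h _).2.1)
        · exact absurd hij (Tool.nontriv_iff.1 (h _).2.1)
        · exact congrArg _ (he hij)
      · cases i
        · exact fun _ => rfl
        · exact (h _).2.2 σ
  · obtain ⟨-, e, -, h⟩ := h.mem hA hM
    exact ⟨e 0, h 0⟩

end Cfsg.Agent.KZ.G2
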