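import Cfsg.Agent.KZ.G2.Fin

/-!
# KZ, `G₂(q)` and `³D₄(q)`: the data (helper50)

`ckG` : type `G₂`; `ckD` : type `D₄` with the triality.
-/

set_option autoImplicit false

namespace Cfsg.Agent.KZ.G2

open Cfsg Cfsg.Lie Cfsg.Agent.KZ.DatX Matrix

/-- the matrices of the Weyl group -/
def lG : List (List (List ℤ)) := [
  [[1, 0], [0, 1]], [[-1, 0], [3, 1]], [[1, 1], [0, -1]], [[2, 1], [-3, -1]], [[-1, -1], [3, 2]], [[-2, -1], [3, 2]],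
  [[2, 1], [-3, -2]], [[1, 1], [-3, -2]], [[-2, -1], [3, 1]], [[-1, -1], [0, 1]], [[1, 0], [-3, -1]],
  [[-1, 0], [0, -1]]]

/-- left multiplication by the simple reflections -/
def tG : List (List ℕ) := [
  [1, 2], [0, 3], [4, 0], [5, 1], [2, 6], [3, 7], [8, 4], [9, 5], [6, 10], [7, 11], [11, 8], [10, 9]]

/-- the matrices of the Weyl group -/
def lD : List (List (List ℤ)) := [
  [[1, 0, 0, 0], [0, 1, 0, 0], [0, 0, 1, 0], [0, 0, 0, 1]],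
  [[-1, 0, 0, 0], [1, 1, 0, 0], [0, 0, 1, 0], [0, 0, 0, 1]],
  [[1, 1, 0, 0], [0, -1, 0, 0], [0, 1, 1, 0], [0, 1, 0, 1]],
  [[1, 0, 0, 0], [0, 1, 1, 0], [0, 0, -1, 0], [0, 0, 0, 1]],
  [[1, 0, 0, 0], [0, 1, 0, 1], [0, 0, 1, 0], [0, 0, 0, -1]],
  [[0, 1, 0, 0], [-1, -1, 0, 0], [1, 1, 1, 0], [1, 1, 0, 1]],
  [[-1, 0, 0, 0], [1, 1, 1, 0], [0, 0, -1, 0], [0, 0, 0, 1]],
  [[-1, 0, 0, 0], [1, 1, 0, 1], [0, 0, 1, 0], [0, 0, 0, -1]],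
  [[-1, -1, 0, 0], [1, 0, 0, 0], [0, 1, 1, 0], [0, 1, 0, 1]],
  [[1, 1, 0, 0], [0, 0, 1, 0], [0, -1, -1, 0], [0, 1, 0, 1]],
  [[1, 1, 0, 0], [0, 0, 0, 1], [0, 1, 1, 0], [0, -1, 0, -1]],
  [[1, 1, 1, 0], [0, -1, -1, 0], [0, 1, 0, 0], [0, 1, 1, 1]],
  [[1, 0, 0, 0], [0, 1, 1, 1], [0, 0, -1, 0], [0, 0, 0, -1]],
  [[1, 1, 0, 1], [0, -1, 0, -1], [0, 1, 1, 1], [0, 1, 0, 0]],
  [[0, -1, 0, 0], [-1, 0, 0, 0], [1, 1, 1, 0], [1, 1, 0, 1]],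
  [[0, 1, 0, 0], [0, 0, 1, 0], [-1, -1, -1, 0], [1, 1, 0, 1]],
  [[0, 1, 0, 0], [0, 0, 0, 1], [1, 1, 1, 0], [-1, -1, 0, -1]],
  [[0, 1, 1, 0], [-1, -1, -1, 0], [1, 1, 0, 0], [1, 1, 1, 1]],
  [[-1, 0, 0, 0], [1, 1, 1, 1], [0, 0, -1, 0], [0, 0, 0, -1]],
  [[0, 1, 0, 1], [-1, -1, 0, -1], [1, 1, 1, 1], [1, 1, 0, 0]],
  [[-1, -1, 0, 0], [1, 1, 1, 0], [0, -1, -1, 0], [0, 1, 0, 1]],
  [[-1, -1, 0, 0], [1, 1, 0, 1], [0, 1, 1, 0], [0, -1, 0, -1]],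
  [[1, 1, 1, 0], [0, 0, -1, 0], [0, -1, 0, 0], [0, 1, 1, 1]],
  [[1, 1, 0, 0], [0, 1, 1, 1], [0, -1, -1, 0], [0, -1, 0, -1]],
  [[1, 1, 0, 1], [0, 0, 0, -1], [0, 1, 1, 1], [0, -1, 0, 0]],
  [[-1, -1, -1, 0], [1, 0, 0, 0], [0, 1, 0, 0], [0, 1, 1, 1]],
  [[1, 1, 1, 0], [0, 0, 0, 1], [0, 1, 0, 0], [0, -1, -1, -1]],
  [[1, 1, 1, 1], [0, -1, -1, -1], [0, 1, 0, 1], [0, 1, 1, 0]],
  [[-1, -1, 0, -1], [1, 0, 0, 0], [0, 1, 1, 1], [0, 1, 0, 0]],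
  [[1, 1, 0, 1], [0, 0, 1, 0], [0, -1, -1, -1], [0, 1, 0, 0]],
  [[0, -1, 0, 0], [0, 1, 1, 0], [-1, -1, -1, 0], [1, 1, 0, 1]],
  [[0, -1, 0, 0], [0, 1, 0, 1], [1, 1, 1, 0], [-1, -1, 0, -1]],
  [[0, 1, 1, 0], [0, 0, -1, 0], [-1, -1, 0, 0], [1, 1, 1, 1]],
  [[0, 1, 0, 0], [1, 1, 1, 1], [-1, -1, -1, 0], [-1, -1, 0, -1]],
  [[0, 1, 0, 1], [0, 0, 0, -1], [1, 1, 1, 1], [-1, -1, 0, 0]],
  [[0, -1, -1, 0], [-1, 0, 0, 0], [1, 1, 0, 0], [1, 1, 1, 1]],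
  [[0, 1, 1, 0], [0, 0, 0, 1], [1, 1, 0, 0], [-1, -1, -1, -1]],
  [[0, 1, 1, 1], [-1, -1, -1, -1], [1, 1, 0, 1], [1, 1, 1, 0]],
  [[0, -1, 0, -1], [-1, 0, 0, 0], [1, 1, 1, 1], [1, 1, 0, 0]],
  [[0, 1, 0, 1], [0, 0, 1, 0], [-1, -1, -1, -1], [1, 1, 0, 0]],
  [[0, 0, 1, 0], [-1, -1, -1, 0], [1, 0, 0, 0], [1, 2, 1, 1]],
  [[-1, -1, 0, 0], [1, 2, 1, 1], [0, -1, -1, 0], [0, -1, 0, -1]],
  [[0, 0, 0, 1], [-1, -1, 0, -1], [1, 2, 1, 1], [1, 0, 0, 0]],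
  [[-1, -1, -1, 0], [1, 1, 0, 0], [0, -1, 0, 0], [0, 1, 1, 1]],
  [[1, 1, 1, 0], [0, 1, 0, 1], [0, -1, 0, 0], [0, -1, -1, -1]],
  [[1, 2, 1, 1], [0, -1, -1, -1], [0, 0, 0, 1], [0, 0, 1, 0]],
  [[-1, -1, 0, -1], [1, 1, 0, 0], [0, 1, 1, 1], [0, -1, 0, 0]],
  [[1, 1, 0, 1], [0, 1, 1, 0], [0, -1, -1, -1], [0, -1, 0, 0]],
  [[-1, -1, -1, 0], [1, 1, 1, 1], [0, 1, 0, 0], [0, -1, -1, -1]],
  [[1, 1, 1, 1], [0, 0, 0, -1], [0, 1, 0, 1], [0, -1, -1, 0]],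
  [[-1, -1, -1, -1], [1, 0, 0, 0], [0, 1, 0, 1], [0, 1, 1, 0]],
  [[1, 1, 1, 1], [0, 0, -1, 0], [0, -1, 0, -1], [0, 1, 1, 0]],
  [[-1, -1, 0, -1], [1, 1, 1, 1], [0, -1, -1, -1], [0, 1, 0, 0]],
  [[0, 0, 1, 0], [0, -1, -1, 0], [-1, 0, 0, 0], [1, 2, 1, 1]],
  [[0, -1, 0, 0], [1, 2, 1, 1], [-1, -1, -1, 0], [-1, -1, 0, -1]],
  [[0, 0, 0, 1], [0, -1, 0, -1], [1, 2, 1, 1], [-1, 0, 0, 0]],
  [[0, -1, -1, 0], [0, 1, 0, 0], [-1, -1, 0, 0], [1, 1, 1, 1]],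
  [[0, 1, 1, 0], [1, 1, 0, 1], [-1, -1, 0, 0], [-1, -1, -1, -1]],
  [[1, 2, 1, 1], [-1, -1, -1, -1], [0, 0, 0, 1], [0, 0, 1, 0]],
  [[0, -1, 0, -1], [0, 1, 0, 0], [1, 1, 1, 1], [-1, -1, 0, 0]],
  [[0, 1, 0, 1], [1, 1, 1, 0], [-1, -1, -1, -1], [-1, -1, 0, 0]],
  [[0, -1, -1, 0], [0, 1, 1, 1], [1, 1, 0, 0], [-1, -1, -1, -1]],
  [[0, 1, 1, 1], [0, 0, 0, -1], [1, 1, 0, 1], [-1, -1, -1, 0]],
  [[0, -1, -1, -1], [-1, 0, 0, 0], [1, 1, 0, 1], [1, 1, 1, 0]],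
  [[0, 1, 1, 1], [0, 0, -1, 0], [-1, -1, 0, -1], [1, 1, 1, 0]],
  [[0, -1, 0, -1], [0, 1, 1, 1], [-1, -1, -1, -1], [1, 1, 0, 0]],
  [[0, 0, -1, 0], [-1, -1, 0, 0], [1, 0, 0, 0], [1, 2, 1, 1]],
  [[0, 0, 1, 0], [0, 1, 0, 1], [1, 0, 0, 0], [-1, -2, -1, -1]],
  [[0, 1, 1, 1], [-1, -2, -1, -1], [1, 1, 0, 1], [1, 1, 1, 0]],
  [[0, 0, 0, -1], [-1, -1, 0, 0], [1, 2, 1, 1], [1, 0, 0, 0]],
  [[0, 0, 0, 1], [0, 1, 1, 0], [-1, -2, -1, -1], [1, 0, 0, 0]],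
  [[-1, -1, -1, 0], [1, 2, 1, 1], [0, -1, 0, 0], [0, -1, -1, -1]],
  [[1, 2, 1, 1], [0, -1, 0, -1], [0, 0, 0, 1], [0, 0, -1, 0]],
  [[-1, -2, -1, -1], [1, 1, 0, 0], [0, 0, 0, 1], [0, 0, 1, 0]],
  [[1, 2, 1, 1], [0, -1, -1, 0], [0, 0, 0, -1], [0, 0, 1, 0]],
  [[-1, -1, 0, -1], [1, 2, 1, 1], [0, -1, -1, -1], [0, -1, 0, 0]],
  [[0, 0, 0, 1], [-1, -1, -1, -1], [1, 2, 1, 1], [1, 0, 0, 0]],
  [[-1, -1, -1, -1], [1, 1, 1, 0], [0, 1, 0, 1], [0, -1, -1, 0]],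
  [[1, 1, 1, 1], [0, 1, 0, 0], [0, -1, 0, -1], [0, -1, -1, 0]],
  [[-1, -1, -1, -1], [1, 1, 0, 1], [0, -1, 0, -1], [0, 1, 1, 0]],
  [[0, 0, 1, 0], [-1, -1, -1, -1], [1, 0, 0, 0], [1, 2, 1, 1]],
  [[0, 0, -1, 0], [0, -1, 0, 0], [-1, 0, 0, 0], [1, 2, 1, 1]],
  [[0, 0, 1, 0], [1, 1, 0, 1], [-1, 0, 0, 0], [-1, -2, -1, -1]],
  [[1, 1, 1, 1], [-1, -2, -1, -1], [0, 1, 0, 1], [0, 1, 1, 0]],
  [[0, 0, 0, -1], [0, -1, 0, 0], [1, 2, 1, 1], [-1, 0, 0, 0]],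
  [[0, 0, 0, 1], [1, 1, 1, 0], [-1, -2, -1, -1], [-1, 0, 0, 0]],
  [[0, -1, -1, 0], [1, 2, 1, 1], [-1, -1, 0, 0], [-1, -1, -1, -1]],
  [[1, 2, 1, 1], [-1, -1, 0, -1], [0, 0, 0, 1], [0, 0, -1, 0]],
  [[-1, -2, -1, -1], [0, 1, 0, 0], [0, 0, 0, 1], [0, 0, 1, 0]],
  [[1, 2, 1, 1], [-1, -1, -1, 0], [0, 0, 0, -1], [0, 0, 1, 0]],
  [[0, -1, 0, -1], [1, 2, 1, 1], [-1, -1, -1, -1], [-1, -1, 0, 0]],
  [[0, 0, 0, 1], [0, -1, -1, -1], [1, 2, 1, 1], [-1, 0, 0, 0]],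
  [[0, -1, -1, -1], [0, 1, 1, 0], [1, 1, 0, 1], [-1, -1, -1, 0]],
  [[0, 1, 1, 1], [1, 1, 0, 0], [-1, -1, 0, -1], [-1, -1, -1, 0]],
  [[0, -1, -1, -1], [0, 1, 0, 1], [-1, -1, 0, -1], [1, 1, 1, 0]],
  [[0, 0, 1, 0], [0, -1, -1, -1], [-1, 0, 0, 0], [1, 2, 1, 1]],
  [[0, 0, -1, 0], [0, 1, 1, 1], [1, 0, 0, 0], [-1, -2, -1, -1]],
  [[0, 1, 1, 1], [0, -1, 0, -1], [1, 1, 0, 1], [-1, -1, -1, 0]],
  [[0, -1, -1, -1], [-1, -1, 0, 0], [1, 1, 0, 1], [1, 1, 1, 0]],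
  [[0, 1, 1, 1], [0, -1, -1, 0], [-1, -1, 0, -1], [1, 1, 1, 0]],
  [[0, 0, 0, -1], [0, 1, 1, 1], [-1, -2, -1, -1], [1, 0, 0, 0]],
  [[0, 1, 0, 1], [-1, -2, -1, -1], [1, 1, 1, 1], [1, 1, 0, 0]],
  [[-1, -2, -1, -1], [1, 1, 1, 0], [0, 0, 0, 1], [0, 0, -1, 0]],
  [[1, 2, 1, 1], [0, -1, 0, 0], [0, 0, 0, -1], [0, 0, -1, 0]],
  [[-1, -2, -1, -1], [1, 1, 0, 1], [0, 0, 0, -1], [0, 0, 1, 0]],
  [[0, 1, 1, 0], [-1, -2, -1, -1], [1, 1, 0, 0], [1, 1, 1, 1]],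
  [[0, 0, 0, -1], [-1, -1, -1, 0], [1, 2, 1, 1], [1, 0, 0, 0]],
  [[0, 0, 0, 1], [0, 1, 0, 0], [-1, -2, -1, -1], [1, 0, 0, 0]],
  [[-1, -1, -1, -1], [1, 2, 1, 1], [0, -1, 0, -1], [0, -1, -1, 0]],
  [[0, 0, -1, 0], [-1, -1, 0, -1], [1, 0, 0, 0], [1, 2, 1, 1]],
  [[0, 0, 1, 0], [0, 1, 0, 0], [1, 0, 0, 0], [-1, -2, -1, -1]],
  [[0, 0, -1, 0], [1, 1, 1, 1], [-1, 0, 0, 0], [-1, -2, -1, -1]],
  [[1, 1, 1, 1], [-1, -1, 0, -1], [0, 1, 0, 1], [0, -1, -1, 0]],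
  [[-1, -1, -1, -1], [0, -1, 0, 0], [0, 1, 0, 1], [0, 1, 1, 0]],
  [[1, 1, 1, 1], [-1, -1, -1, 0], [0, -1, 0, -1], [0, 1, 1, 0]],
  [[0, 0, 0, -1], [1, 1, 1, 1], [-1, -2, -1, -1], [-1, 0, 0, 0]],
  [[1, 1, 0, 1], [-1, -2, -1, -1], [0, 1, 1, 1], [0, 1, 0, 0]],
  [[-1, -2, -1, -1], [0, 1, 1, 0], [0, 0, 0, 1], [0, 0, -1, 0]],
  [[1, 2, 1, 1], [-1, -1, 0, 0], [0, 0, 0, -1], [0, 0, -1, 0]],
  [[-1, -2, -1, -1], [0, 1, 0, 1], [0, 0, 0, -1], [0, 0, 1, 0]],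
  [[1, 1, 1, 0], [-1, -2, -1, -1], [0, 1, 0, 0], [0, 1, 1, 1]],
  [[0, 0, 0, -1], [0, -1, -1, 0], [1, 2, 1, 1], [-1, 0, 0, 0]],
  [[0, 0, 0, 1], [1, 1, 0, 0], [-1, -2, -1, -1], [-1, 0, 0, 0]],
  [[0, -1, -1, -1], [1, 2, 1, 1], [-1, -1, 0, -1], [-1, -1, -1, 0]],
  [[0, 0, -1, 0], [0, -1, 0, -1], [-1, 0, 0, 0], [1, 2, 1, 1]],
  [[0, 0, 1, 0], [1, 1, 0, 0], [-1, 0, 0, 0], [-1, -2, -1, -1]],
  [[0, 1, 0, 1], [0, -1, -1, -1], [1, 1, 1, 1], [-1, -1, 0, 0]],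
  [[0, -1, -1, -1], [0, 0, 1, 0], [1, 1, 0, 1], [-1, -1, -1, 0]],
  [[0, 1, 1, 1], [1, 0, 0, 0], [-1, -1, 0, -1], [-1, -1, -1, 0]],
  [[0, -1, -1, -1], [0, 0, 0, 1], [-1, -1, 0, -1], [1, 1, 1, 0]],
  [[0, 1, 1, 0], [0, -1, -1, -1], [-1, -1, 0, 0], [1, 1, 1, 1]],
  [[0, -1, 0, -1], [-1, -1, -1, 0], [1, 1, 1, 1], [1, 1, 0, 0]],
  [[0, 1, 0, 1], [0, -1, 0, 0], [-1, -1, -1, -1], [1, 1, 0, 0]],
  [[-1, -2, -1, -1], [1, 1, 1, 1], [0, 0, 0, -1], [0, 0, -1, 0]],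
  [[0, -1, -1, 0], [-1, -1, 0, -1], [1, 1, 0, 0], [1, 1, 1, 1]],
  [[0, 1, 1, 0], [0, -1, 0, 0], [1, 1, 0, 0], [-1, -1, -1, -1]],
  [[0, 0, 0, -1], [0, 1, 0, 1], [-1, -2, -1, -1], [1, 0, 0, 0]],
  [[0, 1, 0, 0], [-1, -2, -1, -1], [1, 1, 1, 0], [1, 1, 0, 1]],
  [[0, 0, -1, 0], [0, 1, 1, 0], [1, 0, 0, 0], [-1, -2, -1, -1]],
  [[1, 1, 0, 1], [-1, -1, -1, -1], [0, 1, 1, 1], [0, -1, 0, 0]],
  [[-1, -1, -1, -1], [0, 0, 1, 0], [0, 1, 0, 1], [0, -1, -1, 0]],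
  [[1, 1, 1, 1], [-1, 0, 0, 0], [0, -1, 0, -1], [0, -1, -1, 0]],
  [[-1, -1, -1, -1], [0, 0, 0, 1], [0, -1, 0, -1], [0, 1, 1, 0]],
  [[1, 1, 1, 0], [-1, -1, -1, -1], [0, -1, 0, 0], [0, 1, 1, 1]],
  [[-1, -1, 0, -1], [0, -1, -1, 0], [0, 1, 1, 1], [0, 1, 0, 0]],
  [[1, 1, 0, 1], [-1, -1, 0, 0], [0, -1, -1, -1], [0, 1, 0, 0]],
  [[-1, -2, -1, -1], [0, 1, 1, 1], [0, 0, 0, -1], [0, 0, -1, 0]],
  [[-1, -1, -1, 0], [0, -1, 0, -1], [0, 1, 0, 0], [0, 1, 1, 1]],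
  [[1, 1, 1, 0], [-1, -1, 0, 0], [0, 1, 0, 0], [0, -1, -1, -1]],
  [[0, 0, 0, -1], [1, 1, 0, 1], [-1, -2, -1, -1], [-1, 0, 0, 0]],
  [[1, 1, 0, 0], [-1, -2, -1, -1], [0, 1, 1, 0], [0, 1, 0, 1]],
  [[0, 0, -1, 0], [1, 1, 1, 0], [-1, 0, 0, 0], [-1, -2, -1, -1]],
  [[0, -1, 0, -1], [0, 0, -1, 0], [1, 1, 1, 1], [-1, -1, 0, 0]],
  [[0, 1, 0, 1], [1, 0, 0, 0], [-1, -1, -1, -1], [-1, -1, 0, 0]],
  [[0, -1, -1, -1], [1, 1, 1, 1], [-1, -1, 0, -1], [-1, -1, -1, 0]],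
  [[0, -1, -1, 0], [0, 0, 0, -1], [-1, -1, 0, 0], [1, 1, 1, 1]],
  [[0, 1, 1, 0], [1, 0, 0, 0], [-1, -1, 0, 0], [-1, -1, -1, -1]],
  [[0, -1, 0, -1], [0, 0, 0, 1], [-1, -1, -1, -1], [1, 1, 0, 0]],
  [[0, -1, 0, 0], [-1, -1, -1, -1], [1, 1, 1, 0], [1, 1, 0, 1]],
  [[0, -1, -1, 0], [0, 0, 1, 0], [1, 1, 0, 0], [-1, -1, -1, -1]],
  [[0, 1, 0, 0], [0, -1, 0, -1], [-1, -1, -1, 0], [1, 1, 0, 1]],
  [[0, 1, 0, 0], [0, -1, -1, 0], [1, 1, 1, 0], [-1, -1, 0, -1]],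
  [[-1, -1, 0, -1], [0, 0, -1, 0], [0, 1, 1, 1], [0, -1, 0, 0]],
  [[1, 1, 0, 1], [-1, 0, 0, 0], [0, -1, -1, -1], [0, -1, 0, 0]],
  [[-1, -1, -1, -1], [0, 1, 1, 1], [0, -1, 0, -1], [0, -1, -1, 0]],
  [[-1, -1, -1, 0], [0, 0, 0, -1], [0, -1, 0, 0], [0, 1, 1, 1]],
  [[1, 1, 1, 0], [-1, 0, 0, 0], [0, -1, 0, 0], [0, -1, -1, -1]],
  [[-1, -1, 0, -1], [0, 0, 0, 1], [0, -1, -1, -1], [0, 1, 0, 0]],
  [[-1, -1, 0, 0], [0, -1, -1, -1], [0, 1, 1, 0], [0, 1, 0, 1]],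
  [[-1, -1, -1, 0], [0, 0, 1, 0], [0, 1, 0, 0], [0, -1, -1, -1]],
  [[1, 1, 0, 0], [-1, -1, 0, -1], [0, -1, -1, 0], [0, 1, 0, 1]],
  [[1, 1, 0, 0], [-1, -1, -1, 0], [0, 1, 1, 0], [0, -1, 0, -1]],
  [[0, -1, 0, -1], [1, 1, 0, 1], [-1, -1, -1, -1], [-1, -1, 0, 0]],
  [[1, 0, 0, 0], [-1, -1, -1, -1], [0, 0, 1, 0], [0, 0, 0, 1]],
  [[0, -1, -1, 0], [1, 1, 1, 0], [-1, -1, 0, 0], [-1, -1, -1, -1]],
  [[0, -1, 0, 0], [0, 0, 0, -1], [-1, -1, -1, 0], [1, 1, 0, 1]],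
  [[0, -1, 0, 0], [0, 0, -1, 0], [1, 1, 1, 0], [-1, -1, 0, -1]],
  [[0, 1, 0, 0], [1, 0, 0, 0], [-1, -1, -1, 0], [-1, -1, 0, -1]],
  [[-1, -1, 0, -1], [0, 1, 0, 1], [0, -1, -1, -1], [0, -1, 0, 0]],
  [[-1, 0, 0, 0], [0, -1, -1, -1], [0, 0, 1, 0], [0, 0, 0, 1]],
  [[-1, -1, -1, 0], [0, 1, 1, 0], [0, -1, 0, 0], [0, -1, -1, -1]],
  [[-1, -1, 0, 0], [0, 0, 0, -1], [0, -1, -1, 0], [0, 1, 0, 1]],
  [[-1, -1, 0, 0], [0, 0, -1, 0], [0, 1, 1, 0], [0, -1, 0, -1]],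
  [[1, 1, 0, 0], [-1, 0, 0, 0], [0, -1, -1, 0], [0, -1, 0, -1]],
  [[1, 0, 0, 0], [-1, -1, 0, -1], [0, 0, -1, 0], [0, 0, 0, 1]],
  [[1, 0, 0, 0], [-1, -1, -1, 0], [0, 0, 1, 0], [0, 0, 0, -1]],
  [[0, -1, 0, 0], [1, 1, 0, 0], [-1, -1, -1, 0], [-1, -1, 0, -1]],
  [[-1, 0, 0, 0], [0, -1, 0, -1], [0, 0, -1, 0], [0, 0, 0, 1]],
  [[-1, 0, 0, 0], [0, -1, -1, 0], [0, 0, 1, 0], [0, 0, 0, -1]],
  [[-1, -1, 0, 0], [0, 1, 0, 0], [0, -1, -1, 0], [0, -1, 0, -1]],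
  [[1, 0, 0, 0], [-1, -1, 0, 0], [0, 0, -1, 0], [0, 0, 0, -1]],
  [[-1, 0, 0, 0], [0, -1, 0, 0], [0, 0, -1, 0], [0, 0, 0, -1]]]

/-- left multiplication by the simple reflections -/
def tD : List (List ℕ) := [
  [1, 2, 3, 4], [0, 5, 6, 7], [8, 0, 9, 10], [6, 11, 0, 12], [7, 13, 12, 0], [14, 1, 15, 16], [3, 17, 1, 18],
  [4, 19, 18, 1], [2, 14, 20, 21], [20, 22, 2, 23], [21, 24, 23, 2], [25, 3, 22, 26], [18, 27, 4, 3],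
  [28, 4, 29, 24], [5, 8, 30, 31], [30, 32, 5, 33], [31, 34, 33, 5], [35, 6, 32, 36], [12, 37, 7, 6],
  [38, 7, 39, 34], [9, 40, 8, 41], [10, 42, 41, 8], [43, 9, 11, 44], [41, 45, 10, 9], [46, 10, 47, 13],
  [11, 35, 43, 48], [48, 49, 44, 11], [50, 12, 51, 49], [13, 38, 52, 46], [52, 51, 13, 47], [15, 53, 14, 54],
  [16, 55, 54, 14], [56, 15, 17, 57], [54, 58, 16, 15], [59, 16, 60, 19], [17, 25, 56, 61], [61, 62, 57, 17],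
  [63, 18, 64, 62], [19, 28, 65, 59], [65, 64, 19, 60], [66, 20, 53, 67], [23, 68, 21, 20], [69, 21, 70, 55],
  [22, 66, 25, 71], [71, 72, 26, 22], [73, 23, 74, 72], [24, 69, 75, 28], [75, 74, 24, 29], [26, 76, 71, 25],
  [77, 26, 78, 27], [27, 63, 79, 77], [79, 29, 27, 78], [29, 80, 28, 75], [81, 30, 40, 82], [33, 83, 31, 30],
  [84, 31, 85, 42], [32, 81, 35, 86], [86, 87, 36, 32], [88, 33, 89, 87], [34, 84, 90, 38], [90, 89, 34, 39],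
  [36, 91, 86, 35], [92, 36, 93, 37], [37, 50, 94, 92], [94, 39, 37, 93], [39, 95, 38, 90], [40, 43, 81, 96],
  [96, 97, 82, 40], [98, 41, 99, 97], [42, 46, 100, 84], [100, 99, 42, 85], [44, 101, 48, 43], [102, 44, 103, 45],
  [45, 98, 104, 102], [104, 47, 45, 103], [47, 105, 46, 52], [106, 48, 107, 91], [49, 106, 108, 50],
  [108, 103, 49, 51], [51, 109, 50, 108], [109, 52, 95, 110], [53, 56, 66, 111], [111, 112, 67, 53],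
  [113, 54, 114, 112], [55, 59, 115, 69], [115, 114, 55, 70], [57, 116, 61, 56], [117, 57, 118, 58],
  [58, 113, 119, 117], [119, 60, 58, 118], [60, 120, 59, 65], [121, 61, 122, 76], [62, 121, 123, 63],
  [123, 118, 62, 64], [64, 124, 63, 123], [124, 65, 80, 125], [67, 126, 111, 66], [127, 67, 128, 68],
  [68, 73, 129, 127], [129, 70, 68, 128], [70, 130, 69, 115], [131, 71, 132, 126], [72, 131, 133, 73],
  [133, 78, 72, 74], [74, 134, 73, 133], [134, 75, 130, 135], [76, 77, 136, 121], [136, 132, 76, 122],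
  [78, 137, 77, 79], [80, 79, 124, 138], [138, 135, 125, 80], [82, 139, 96, 81], [140, 82, 141, 83],
  [83, 88, 142, 140], [142, 85, 83, 141], [85, 143, 84, 100], [144, 86, 145, 139], [87, 144, 146, 88],
  [146, 93, 87, 89], [89, 147, 88, 146], [147, 90, 143, 148], [91, 92, 149, 106], [149, 145, 91, 107],
  [93, 150, 92, 94], [95, 94, 109, 151], [151, 148, 110, 95], [152, 96, 153, 101], [97, 152, 154, 98],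
  [154, 141, 97, 99], [99, 155, 98, 154], [155, 100, 105, 156], [101, 102, 157, 152], [157, 107, 101, 153],
  [103, 158, 102, 104], [105, 104, 155, 159], [159, 110, 156, 105], [107, 160, 106, 149], [158, 108, 160, 161],
  [110, 161, 151, 109], [162, 111, 163, 116], [112, 162, 164, 113], [164, 128, 112, 114], [114, 165, 113, 164],
  [165, 115, 120, 166], [116, 117, 167, 162], [167, 122, 116, 163], [118, 168, 117, 119], [120, 119, 165, 169],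
  [169, 125, 166, 120], [122, 170, 121, 136], [168, 123, 170, 171], [125, 171, 138, 124], [126, 127, 172, 131],
  [172, 163, 126, 132], [128, 173, 127, 129], [130, 129, 134, 174], [174, 166, 135, 130], [132, 175, 131, 172],
  [137, 133, 175, 176], [135, 176, 174, 134], [175, 136, 137, 177], [176, 138, 177, 137], [139, 140, 178, 144],
  [178, 153, 139, 145], [141, 179, 140, 142], [143, 142, 147, 180], [180, 156, 148, 143], [145, 181, 144, 178],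
  [150, 146, 181, 182], [148, 182, 180, 147], [181, 149, 150, 183], [182, 151, 183, 150], [153, 184, 152, 157],
  [179, 154, 184, 185], [156, 185, 159, 155], [160, 157, 158, 186], [161, 159, 186, 158], [186, 183, 161, 160],
  [163, 187, 162, 167], [173, 164, 187, 188], [166, 188, 169, 165], [170, 167, 168, 189], [171, 169, 189, 168],
  [189, 177, 171, 170], [187, 172, 173, 190], [188, 174, 190, 173], [177, 190, 176, 175], [184, 178, 179, 191],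
  [185, 180, 191, 179], [183, 191, 182, 181], [191, 186, 185, 184], [190, 189, 188, 187]]

/-! ### characteristic polynomials -/

theorem det_two (a : FM) (Q : ℤ) :
    (Q • toM 2 a - 1).det = 1 - (a 0 0 + a 1 1) * Q + (a 0 0 * a 1 1 - a 0 1 * a 1 0) * Q ^ 2 := by
  rw [det_fin_two]
  simp [toM]
  ring

/-- a minor of size `2` -/
def m2 (a : FM) (r s c d : ℕ) : ℤ := a r c * a s d - a r d * a s c

/-- a minor of size `3` -/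
def m3 (a : FM) (r s t c d e : ℕ) : ℤ := a r c * m2 a s t d e - a r d * m2 a s t c e + a r e * m2 a s t c d

/-- the coefficients -/
def cf (a : FM) : ℤ × ℤ × ℤ × ℤ :=
  (a 0 0 + a 1 1 + a 2 2 + a 3 3,
    m2 a 0 1 0 1 + m2 a 0 2 0 2 + m2 a 0 3 0 3 + m2 a 1 2 1 2 + m2 a 1 3 1 3 + m2 a 2 3 2 3,
    m3 a 0 1 2 0 1 2 + m3 a 0 1 3 0 1 3 + m3 a 0 2 3 0 2 3 + m3 a 1 2 3 1 2 3,
    a 0 0 * m3 a 1 2 3 1 2 3 - a 0 1 * m3 a 1 2 3 0 2 3 + a 0 2 * m3 a 1 2 3 0 1 3 - a 0 3 * m3 a 1 2 3 0 1 2)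

theorem det_four (a : FM) (Q : ℤ) : (Q • toM 4 a - 1).det =
    1 - (cf a).1 * Q + (cf a).2.1 * Q ^ 2 - (cf a).2.2.1 * Q ^ 3 + (cf a).2.2.2 * Q ^ 4 := by
  rw [det_succ_row_zero]
  simp only [Fin.sum_univ_four, det_fin_three, submatrix_apply]
  simp [Fin.succAbove, Fin.succ, Fin.castSucc, Fin.castAdd, Fin.castLE, Fin.lt_def, toM, cf, m2, m3, one_apply,
    Fin.ext_iff]
  ring

theorem not_dvd_of {g : ℤ} (u : ℤ) (h : g = 3 * u + 1 ∨ g = 3 * u + 2) : ¬ 3 ∣ g := by omega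

/-! ### type `G₂` -/

/-- the elements -/
def eG (n : ℕ) : FM := gt (lG.getD n [])

theorem sylG : ∀ n < 12, (fun a : FM => (a 0 0 + a 1 1, a 0 0 * a 1 1 - a 0 1 * a 1 0)) (mF 2 (eG n) oneF) ∈
    [(0, -1), (1, 1), (-1, 1), (-2, 1)] ∨
      ∃ m < 12, eqF 2 (mF 2 (mF 2 (eG n) oneF) (eG m)) (mF 2 (eG m) oneF) = true := by decide +kernel

/-- the checks -/
def ckG : Ck chevG2 2 12 oneF where
  e := eG
  S i := gt (([[[-1, 0], [3, 1]], [[1, 1], [0, -1]]] : List (List (List ℤ))).getD i [])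
  T n i := (tG.getD n []).getD i 0
  iz := 11
  iσ := 8
  r := 0
  xs := [3, 2]
  y0 := [0, -1]
  lam := [0, 1]
  Z := gt [[0, 1], [-3, -3]]
  U1 := gt [[0, 0], [-1, 0]]
  U2 := gt []
  U3 := gt [[0, 0], [1, 1]]
  Ys := oneF
  Yt := oneF
  RP := gt [[-1, 0], [3, 1]]
  hS := by decide +kernel
  e0 := by decide +kernel
  clo := by decide +kernel
  z_eq := by decide +kernel
  σ_lt := by decide +kernel
  hRP := by decide +kernel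
  σP := by decide +kernel
  σ_ne := by decide +kernel
  σ3 := by decide +kernel
  rP := by decide +kernel
  rσ := by decide +kernel
  three := by decide +kernel
  xs_σ := by decide +kernel
  xs_r := by decide +kernel
  xs_P := by decide +kernel
  xs_ne := by decide +kernel
  hZ := by decide +kernel
  hU := by decide +kernel
  Ys_P := by decide +kernel
  faith := by decide +kernel
  Yt_P := by decide +kernel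
  reg := by decide +kernel
  wl := by decide +kernel
  r_lam := by decide +kernel
  P_lam := by decide +kernel
  n1 := by decide +kernel
  n2 := by decide +kernel
  n3 := by decide +kernel
  n4 := by decide +kernel
  syl n hn := by
    refine (sylG n hn).symm.imp id fun h t => ?_
    rw [det_two, det_two]
    simp only [List.mem_cons, Prod.mk.injEq, List.not_mem_nil, or_false] at h
    rcases h with ⟨h1, h2⟩ | ⟨h1, h2⟩ | ⟨h1, h2⟩ | ⟨h1, h2⟩ <;> rw [h1, h2]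
    · exact ⟨3 * t, -(3 * t + 2), t, by omega, by ring, by simp [oneF]; ring⟩
    · exact ⟨1, _, 3 * t ^ 2, not_dvd_of (3 * t ^ 2 + t) (.inl rfl), by ring, by simp [oneF]; ring⟩
    · exact ⟨3, _, t ^ 2, not_dvd_of (t ^ 2 + t) (.inl rfl), by ring, by simp [oneF]; ring⟩
    · exact ⟨1, _, 3 * t ^ 2, not_dvd_of (3 * t ^ 2 + 4 * t + 1) (.inl rfl), by ring, by simp [oneF]; ring⟩
  w9 := by decide

/-! ### type `D₄` -/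

/-- the elements -/
def eD (n : ℕ) : FM := gt (lD.getD n [])

/-- the triality -/
def pD : FM := gt [[0, 0, 0, 1], [0, 1, 0, 0], [1, 0, 0, 0], [0, 0, 1, 0]]

theorem toM_pD : toM 4 pD = P4 := by decide +kernel

theorem cf_pD : cf pD = (1, 0, 1, 1) := by decide +kernel

theorem sylD : ∀ n < 192, cf (mF 4 (eD n) pD) ∈
    [(1, 0, -1, -1), (-1, 0, 1, -1), (0, -1, 0, 1), (2, 3, 2, 1), (-1, 0, -1, 1), (-2, 3, -2, 1)] ∨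
      ∃ m < 192, eqF 4 (mF 4 (mF 4 (eD n) pD) (eD m)) (mF 4 (eD m) pD) = true := by decide +kernel

/-- the checks -/
def ckD : Ck chevD4 4 192 pD where
  e := eD
  S i := gt (([[[-1, 0, 0, 0], [1, 1, 0, 0], [0, 0, 1, 0], [0, 0, 0, 1]],
    [[1, 1, 0, 0], [0, -1, 0, 0], [0, 1, 1, 0], [0, 1, 0, 1]],
    [[1, 0, 0, 0], [0, 1, 1, 0], [0, 0, -1, 0], [0, 0, 0, 1]],
    [[1, 0, 0, 0], [0, 1, 0, 1], [0, 0, 1, 0], [0, 0, 0, -1]]] : List (List (List ℤ))).getD i [])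
  T n i := (tD.getD n []).getD i 0
  iz := 191
  iσ := 150
  r := 1
  xs := [1, 0, 1, -2]
  y0 := [1, 0, 0, 0]
  lam := [1, 0, 1, 1]
  Z := gt [[-3, -3, -3, -3], [1, 0, 1, 1]]
  U1 := gt [[0, -1, 0, 0]]
  U2 := gt [[0, 0, 1, 0], [], [], [0, 0, 0, -1]]
  U3 := gt [[0, 0, 0, 1]]
  Ys := gt [[1, 0, 1, 1], [0, 1, 0, 0]]
  Yt := gt [[1, 0], [0, 1], [1, 0], [1, 0]]
  RP := gt [[0, 1, 0, 1], [0, -1, 0, 0], [1, 1, 0, 0], [0, 1, 1, 0]]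
  hS := by decide +kernel
  e0 := by decide +kernel
  clo := by decide +kernel
  z_eq := by decide +kernel
  σ_lt := by decide +kernel
  hRP := by decide +kernel
  σP := by decide +kernel
  σ_ne := by decide +kernel
  σ3 := by decide +kernel
  rP := by decide +kernel
  rσ := by decide +kernel
  three := by decide +kernel
  xs_σ := by decide +kernel
  xs_r := by decide +kernel
  xs_P := by decide +kernel
  xs_ne := by decide +kernel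
  hZ := by decide +kernel
  hU := by decide +kernel
  Ys_P := by decide +kernel
  faith := by decide +kernel
  Yt_P := by decide +kernel
  reg := by decide +kernel
  wl := by decide +kernel
  r_lam := by decide +kernel
  P_lam := by decide +kernel
  n1 := by decide +kernel
  n2 := by decide +kernel
  n3 := by decide +kernel
  n4 := by decide +kernel
  syl n hn := by
    refine (sylD n hn).symm.imp id fun h t => ?_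
    rw [det_four, det_four, cf_pD]
    simp only [List.mem_cons, List.not_mem_nil, or_false] at h
    rcases h with h | h | h | h | h | h <;> rw [h]
    · exact ⟨3 * t, _, 9 * t ^ 3 + 9 * t ^ 2 + 3 * t,
        not_dvd_of (-(9 * t ^ 3 + 9 * t ^ 2 + 3 * t + 1)) (.inl rfl), by ring, by ring⟩
    · exact ⟨(3 * t + 1) ^ 3 - 1, -(3 * t + 2), t, by omega, by ring, by ring⟩
    · exact ⟨1, _, t * ((3 * t + 1) ^ 3 - 1),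
        not_dvd_of (27 * t ^ 4 + 36 * t ^ 3 + 15 * t ^ 2 + 2 * t) (.inl rfl), by ring, by ring⟩
    · exact ⟨1, _, t * ((3 * t + 1) ^ 3 - 1),
        not_dvd_of (27 * t ^ 4 + 18 * t ^ 3 + 9 * t ^ 2 + 2 * t) (.inl rfl), by ring, by ring⟩
    · exact ⟨1, _, t * ((3 * t + 1) ^ 3 - 1),
        not_dvd_of (27 * t ^ 4 + 45 * t ^ 3 + 27 * t ^ 2 + 8 * t + 1) (.inl rfl), by ring, by ring⟩
    · exact ⟨9, _, t ^ 2 * (3 * t ^ 2 + 3 * t + 1),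
        not_dvd_of (3 * t ^ 4 + 6 * t ^ 3 + 5 * t ^ 2 + 2 * t) (.inl rfl), by ring, by ring⟩
  w9 := by decide

end Cfsg.Agent.KZ.G2
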