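import Cfsg.Agent.KZ.G2.Row
import Cfsg.Agent.KZ.Lie.Loc

/-!
# KZ, the rows of `G₂(q)` and `³D₄(q)`, `3 ∤ q` (helper50)
-/

set_option autoImplicit false

namespace Cfsg.Agent.KZ.G2

open Cfsg Cfsg.Lie Cfsg.Agent.KZ.Lie

theorem boxL : BoxL := fun _ _ _ _ _ s hp hA _ hF hC hR h3 A _ _ N₀ _ e P =>
  exists_loc s hA hp hF hC hR (.inr h3) A N₀ e P

/-- `Box.g2` -/
theorem row_g2 (hA : BoxApi) : Row (ChevX chevG2 3) := row_g2_of hA boxL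

/-- `Box.tw4` -/
theorem row_tw4 (hA : BoxApi) : Row TwD4X := row_tw4_of hA boxL

end Cfsg.Agent.KZ.G2
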