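import Cfsg.Agent.KZ.G2.Brg
import Cfsg.Agent.KZ.G2.Dat
import Cfsg.Agent.KZ.DatX.Main

/-!
# KZ, the rows of `G₂(q)` and `³D₄(q)` from the boxes (helper50)
-/

set_option autoImplicit false

namespace Cfsg.Agent.KZ.G2

open Cfsg Cfsg.Lie Cfsg.Agent.DL Cfsg.Agent.KZ.Lie Cfsg.Agent.KZ.DatX Cfsg.Agent.Nodes.RGDChev

theorem gd_of {C : ChevalleyDatum} {l N : ℕ} {M : CoxeterMatrix (Fin l)} {P : FM} (K : Ck C l N P) {hp : IsType C l M}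
    (hN : Nat.card M.Group = N) {p e : ℕ} [Fact p.Prime] (h3 : p ≠ 3) {S : Type} [Group S]
    (h : Has hp p ((p : ℤ) ^ e • toM l P) (AdmF p) 1 S) : Gd S := by
  obtain ⟨k, _, _, _, X, ⟨s⟩⟩ := h
  obtain ⟨B⟩ := K.cm X hN
  have h1 : ∀ j : ℕ, ¬ (3 : ℤ) ∣ (p : ℤ) ^ j := fun j h => h3 ((Nat.prime_dvd_prime_iff_eq Nat.prime_three Fact.out).1
    (Int.natCast_dvd_natCast.1 (Int.prime_three.dvd_of_dvd_pow h))).symm
  obtain ⟨w₀, hC⟩ := B.exists_cb (h1 e) rfl (Adm := AdmF p) fun A ⟨j, hj⟩ => ⟨_, h1 j, hj⟩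
  exact ⟨p, _, k, _, _, _, _, _, _, _, _, _, _, _, X.D, AdmF p, s.sit, w₀, h3, s.H0_eq, s.sit_π_inj, hC⟩

/-- the row of `G₂(q)` -/
theorem row_g2_of (hA : BoxApi) (hL : BoxL) : Row (ChevX chevG2 3) :=
  (row_of hA hL).mono fun _ _ h => by
    obtain ⟨p, e, _, h3, -, -, h⟩ := row_G2 h
    exact gd_of ckG card_W_G2 h3 (by rwa [toM_one])

/-- the row of `³D₄(q)` -/
theorem row_tw4_of (hA : BoxApi) (hL : BoxL) : Row TwD4X :=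
  (row_of hA hL).mono fun _ _ h => by
    obtain ⟨p, e, _, h3, -, h⟩ := row_3D4 h
    exact gd_of ckD card_W_D4 h3 (by rwa [toM_pD])

end Cfsg.Agent.KZ.G2
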